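import Cfsg.Agent.H856.JM.AnGen

/-!
# Groups normalizing an alternating group, abstract form

`f : A_n →* G` injective with image `S`; `τ` acts on `S` as the transposition `(0 1)`.
-/

set_option autoImplicit false

namespace Cfsg.Agent.H856.JM

open Equiv

variable {G : Type*} [Group G] {k : ℕ}

/-- `m` acts on the image of `f` as the permutation `σ` -/
def Acts (f : alternatingGroup (Fin (k + 3)) →* G) (m : G) (σ : Perm (Fin (k + 3))) : Prop :=
  ∀ x : alternatingGroup (Fin (k + 3)), m * f x * m⁻¹ = f (MulAut.conjNormal σ x)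

variable {f : alternatingGroup (Fin (k + 3)) →* G}

theorem Acts.mul {m m' : G} {σ σ' : Perm (Fin (k + 3))} (h : Acts f m σ) (h' : Acts f m' σ') :
    Acts f (m * m') (σ * σ') := by
  intro x
  rw [map_mul, MulAut.mul_apply, ← h, ← h']
  group

theorem Acts.inner (a : alternatingGroup (Fin (k + 3))) : Acts f (f a) (a : Perm (Fin (k + 3))) := by
  intro x
  rw [← map_mul, ← map_inv, ← map_mul]
  congr 1

theorem Acts.inv {m : G} {σ : Perm (Fin (k + 3))} (h : Acts f m σ) : Acts f m⁻¹ σ⁻¹ := by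
  intro x
  have h1 := h (MulAut.conjNormal σ⁻¹ x)
  rw [← MulAut.mul_apply, ← map_mul, mul_inv_cancel, map_one, MulAut.one_apply] at h1
  rw [← h1]
  group

theorem Acts.eq_one {m : G} (h : Acts f m 1) (hC : ∀ c : G, (∀ x, c * f x = f x * c) → c = 1) :
    m = 1 := by
  apply hC
  intro x
  have h1 := h x
  rw [map_one, MulAut.one_apply] at h1
  rwa [mul_inv_eq_iff_eq_mul] at h1

theorem Acts.uniq {m m' : G} {σ : Perm (Fin (k + 3))} (h : Acts f m σ) (h' : Acts f m' σ)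
    (hC : ∀ c : G, (∀ x, c * f x = f x * c) → c = 1) : m = m' := by
  have h1 := h.mul h'.inv
  rw [mul_inv_cancel] at h1
  exact mul_inv_eq_one.1 (h1.eq_one hC)

/-- every element normalizing the image acts as a permutation (`n ≠ 6`) -/
theorem exists_acts (hk : 1 ≤ k) (h3 : k ≠ 3) (hf : Function.Injective f) {m : G}
    (hm : ∀ x, ∃ z, m * f x * m⁻¹ = f z) (hm' : ∀ x, ∃ z, m⁻¹ * f x * m = f z) :
    ∃ σ, Acts f m σ := by
  choose φ hφ using hm
  choose ψ hψ using hm'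
  have e1 : ∀ x, ψ (φ x) = x := by
    intro x
    apply hf
    rw [← hψ, ← hφ]
    group
  have e2 : ∀ x, φ (ψ x) = x := by
    intro x
    apply hf
    rw [← hφ, ← hψ]
    group
  let α : MulAut (alternatingGroup (Fin (k + 3))) :=
    { toFun := φ
      invFun := ψ
      left_inv := e1
      right_inv := e2
      map_mul' := by
        intro x z
        apply hf
        rw [map_mul, ← hφ, ← hφ, ← hφ, map_mul]
        group }
  obtain ⟨σ, hσ⟩ := (S2119.result (k + 3) (by omega) (by omega)).2 α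
  refine ⟨σ, fun x => ?_⟩
  rw [hφ, hσ]
  rfl

/-- an element acting as an even permutation is in the image -/
theorem Acts.mem {m : G} {σ : Perm (Fin (k + 3))} (h : Acts f m σ)
    (hC : ∀ c : G, (∀ x, c * f x = f x * c) → c = 1) (hσ : Perm.sign σ = 1) :
    ∃ x, m = f x := by
  refine ⟨⟨σ, Perm.mem_alternatingGroup.2 hσ⟩, h.uniq ?_ hC⟩
  exact Acts.inner (⟨σ, Perm.mem_alternatingGroup.2 hσ⟩ : alternatingGroup (Fin (k + 3)))

/-- an element acting as an odd permutation gives an element `τ` acting as `(0 1)` -/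
theorem Acts.odd {m : G} {σ : Perm (Fin (k + 3))} (h : Acts f m σ) (hσ : Perm.sign σ = -1) :
    ∃ x, Acts f (f x * m) (swap 0 1) := by
  have h1 : Perm.sign (swap 0 1 * σ⁻¹ : Perm (Fin (k + 3))) = 1 := by
    rw [Perm.sign_mul, Perm.sign_inv, hσ, Perm.sign_swap (by simp)]
    decide
  refine ⟨⟨_, Perm.mem_alternatingGroup.2 h1⟩, ?_⟩
  have h2 := (Acts.inner (f := f) ⟨_, Perm.mem_alternatingGroup.2 h1⟩).mul h
  rwa [inv_mul_cancel_right] at h2

/-- the element `τ` acting as the transposition `(0 1)` -/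
theorem Acts.sq {m : G} (h : Acts f m (swap 0 1))
    (hC : ∀ c : G, (∀ x, c * f x = f x * c) → c = 1) : m * m = 1 := by
  have h1 := h.mul h
  rw [swap_mul_self] at h1
  exact h1.eq_one hC

theorem conj_mo_zero (k : ℕ) : MulAut.conjNormal (swap 0 1) (mg k 0) = (mg k 0)⁻¹ := by
  apply Subtype.ext
  rw [MulAut.conjNormal_apply]
  have h1 : (swap 0 1 : Perm (Fin (k + 3))) = S3335.tr k 0 := rfl
  have h2 : ((mg k 0 : alternatingGroup (Fin (k + 3))) : Perm (Fin (k + 3))) =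
    S3335.tr k 0 * S3335.tr k 1 := rfl
  have h3 : ∀ i, (S3335.tr k i)⁻¹ = S3335.tr k i := fun i =>
    inv_eq_of_mul_eq_one_left (S3335.tr_mul k i)
  rw [InvMemClass.coe_inv, h2, mul_inv_rev, h1, h3, h3, ← mul_assoc, S3335.tr_mul, one_mul]

theorem conj_mo_pos {k : ℕ} {i : Fin (k + 1)} (hi : 1 ≤ i.val) :
    MulAut.conjNormal (swap 0 1) (mg k i) = mg k i := by
  apply Subtype.ext
  rw [MulAut.conjNormal_apply]
  have h1 : (swap 0 1 : Perm (Fin (k + 3))) = S3335.tr k 0 := rfl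
  have h2 : ((mg k i : alternatingGroup (Fin (k + 3))) : Perm (Fin (k + 3))) =
    S3335.tr k 0 * S3335.tr k i.succ := rfl
  have h3 : (S3335.tr k 0)⁻¹ = S3335.tr k 0 := inv_eq_of_mul_eq_one_left (S3335.tr_mul k 0)
  have h4 : S3335.tr k 0 * S3335.tr k i.succ = S3335.tr k i.succ * S3335.tr k 0 :=
    S3335.comm_of_ne (by rw [Fin.val_succ, Fin.val_zero]; omega)
  rw [h2, h1, h3, mul_assoc, mul_assoc, ← h4, ← mul_assoc, ← mul_assoc, S3335.tr_mul, one_mul]

theorem Acts.inv_y {m : G} (h : Acts f m (swap 0 1)) : m * f (mg k 0) * m⁻¹ = (f (mg k 0))⁻¹ := by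
  rw [h, conj_mo_zero, map_inv]

theorem Acts.comm {m : G} (h : Acts f m (swap 0 1)) (i : Fin (k + 1)) (hi : 1 ≤ i.val) :
    m * f (mg k i) = f (mg k i) * m := by
  have h1 := h (mg k i)
  rwa [conj_mo_pos hi, mul_inv_eq_iff_eq_mul] at h1

theorem Acts.ne_one {m : G} (h : Acts f m (swap 0 1)) (hf : Function.Injective f) : m ≠ 1 := by
  intro h1
  subst h1
  have h2 := h.inv_y
  rw [one_mul, inv_one, mul_one] at h2
  have h3 : f (mg k 0) * f (mg k 0) = 1 := by
    nth_rewrite 1 [h2]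
    rw [inv_mul_cancel]
  have h4 := tr_cube f
  rw [h3, one_mul] at h4
  exact tr_ne f hf 0 h4

/-- a group `M` between the image and its normalizer (`n ≠ 6`) -/
theorem dichotomy (hk : 1 ≤ k) (h3 : k ≠ 3) (hf : Function.Injective f)
    (hC : ∀ c : G, (∀ x, c * f x = f x * c) → c = 1) {M : Subgroup G} (hle : f.range ≤ M)
    (hM : M ≤ Subgroup.normalizer (f.range : Set G)) :
    M = f.range ∨ ∃ τ ∈ M, Acts f τ (swap 0 1) ∧ ∀ m ∈ M, m ∈ f.range ∨ ∃ s ∈ f.range, m = s * τ := by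
  have hact : ∀ m ∈ M, ∃ σ, Acts f m σ := by
    intro m hm
    refine exists_acts hk h3 hf (fun x => ?_) (fun x => ?_)
    · have h1 := (Subgroup.mem_normalizer_iff.1 (hM hm) (f x)).1 ⟨x, rfl⟩
      obtain ⟨z, hz⟩ := h1
      exact ⟨z, hz.symm⟩
    · have h1 := (Subgroup.mem_normalizer_iff.1 (hM (M.inv_mem hm)) (f x)).1 ⟨x, rfl⟩
      rw [inv_inv] at h1
      obtain ⟨z, hz⟩ := h1
      exact ⟨z, hz.symm⟩
  by_cases h : ∃ m ∈ M, ∃ σ, Acts f m σ ∧ Perm.sign σ = -1
  · right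
    obtain ⟨m, hm, σ, hσ, hs⟩ := h
    obtain ⟨x, hx⟩ := hσ.odd hs
    refine ⟨f x * m, M.mul_mem (hle ⟨x, rfl⟩) hm, hx, fun m' hm' => ?_⟩
    obtain ⟨σ', hσ'⟩ := hact m' hm'
    rcases Int.units_eq_one_or (Perm.sign σ') with h1 | h1
    · left
      obtain ⟨z, hz⟩ := hσ'.mem hC h1
      exact ⟨z, hz.symm⟩
    · right
      have h2 := hσ'.mul hx.inv
      have h4 : Perm.sign (σ' * (swap 0 1)⁻¹ : Perm (Fin (k + 3))) = 1 := by
        rw [Perm.sign_mul, Perm.sign_inv, h1, Perm.sign_swap (by simp)]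
        decide
      obtain ⟨z, hz⟩ := h2.mem hC h4
      exact ⟨f z, ⟨z, rfl⟩, by rw [← hz, inv_mul_cancel_right]⟩
  · left
    apply le_antisymm _ hle
    intro m hm
    obtain ⟨σ, hσ⟩ := hact m hm
    rcases Int.units_eq_one_or (Perm.sign σ) with h1 | h1
    · obtain ⟨z, hz⟩ := hσ.mem hC h1
      exact ⟨z, hz.symm⟩
    · exact absurd ⟨m, hm, σ, hσ, h1⟩ h

/-- degree 6: the elements acting as permutations form a subgroup `N` of index at most 2 in `M` -/
theorem dichotomy_six {f : alternatingGroup (Fin (3 + 3)) →* G} (hf : Function.Injective f)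
    (hC : ∀ c : G, (∀ x, c * f x = f x * c) → c = 1) {M : Subgroup G} (hle : f.range ≤ M)
    (hM : M ≤ Subgroup.normalizer (f.range : Set G)) :
    ∃ N : Subgroup G, f.range ≤ N ∧ N ≤ M ∧ (∀ m ∈ M, ∀ m' ∈ M, m ∉ N → m' ∉ N → m * m' ∈ N) ∧
      (N = f.range ∨ ∃ τ ∈ N, Acts f τ (swap 0 1) ∧
        ∀ m ∈ N, m ∈ f.range ∨ ∃ s ∈ f.range, m = s * τ) := by
  let N : Subgroup G :=
    { carrier := {m | m ∈ M ∧ ∃ σ, Acts f m σ}
      one_mem' := ⟨M.one_mem, 1, fun x => by
        rw [map_one, MulAut.one_apply, one_mul, inv_one, mul_one]⟩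
      mul_mem' := by
        rintro a b ⟨ha, σ, hσ⟩ ⟨hb, σ', hσ'⟩
        exact ⟨M.mul_mem ha hb, _, hσ.mul hσ'⟩
      inv_mem' := by
        rintro a ⟨ha, σ, hσ⟩
        exact ⟨M.inv_mem ha, _, hσ.inv⟩ }
  have hN : ∀ m, m ∈ N ↔ m ∈ M ∧ ∃ σ, Acts f m σ := fun m => Iff.rfl
  have hSN : f.range ≤ N := by
    rintro _ ⟨x, rfl⟩
    exact ⟨hle ⟨x, rfl⟩, _, Acts.inner x⟩
  refine ⟨N, hSN, fun m hm => hm.1, ?_, ?_⟩
  · -- products of two elements outside `N`
    have haut : ∀ m ∈ M, ∃ α : MulAut (alternatingGroup (Fin 6)), ∀ x, m * f x * m⁻¹ = f (α x) := by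
      intro m hm
      have h1 : ∀ x, ∃ z, m * f x * m⁻¹ = f z := by
        intro x
        obtain ⟨z, hz⟩ := (Subgroup.mem_normalizer_iff.1 (hM hm) (f x)).1 ⟨x, rfl⟩
        exact ⟨z, hz.symm⟩
      have h2 : ∀ x, ∃ z, m⁻¹ * f x * m = f z := by
        intro x
        have h1 := (Subgroup.mem_normalizer_iff.1 (hM (M.inv_mem hm)) (f x)).1 ⟨x, rfl⟩
        rw [inv_inv] at h1
        obtain ⟨z, hz⟩ := h1
        exact ⟨z, hz.symm⟩
      choose φ hφ using h1
      choose ψ hψ using h2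
      have e1 : ∀ x, ψ (φ x) = x := by
        intro x
        apply hf
        rw [← hψ, ← hφ]
        group
      have e2 : ∀ x, φ (ψ x) = x := by
        intro x
        apply hf
        rw [← hφ, ← hψ]
        group
      exact ⟨{ toFun := φ
               invFun := ψ
               left_inv := e1
               right_inv := e2
               map_mul' := by
                intro x z
                apply hf
                rw [map_mul, ← hφ, ← hφ, ← hφ, map_mul]
                group }, hφ⟩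
    have key : ∀ m ∈ M, ∀ α : MulAut (alternatingGroup (Fin 6)), (∀ x, m * f x * m⁻¹ = f (α x)) →
        (m ∈ N ↔ StdAlt.Six.NS α) := by
      intro m hm α hα
      rw [hN, StdAlt.Six.ns_iff]
      constructor
      · rintro ⟨-, σ, hσ⟩
        refine ⟨σ, MulEquiv.ext fun x => hf ?_⟩
        rw [← hα, hσ]
        rfl
      · rintro ⟨σ, rfl⟩
        exact ⟨hm, σ, fun x => hα x⟩
    intro m hm m' hm' h1 h2
    obtain ⟨α, hα⟩ := haut m hm
    obtain ⟨β, hβ⟩ := haut m' hm'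
    rw [key m hm α hα] at h1
    rw [key m' hm' β hβ] at h2
    rw [key (m * m') (M.mul_mem hm hm') (α * β) ?_]
    · exact StdAlt.Six.NS.mul_of_not h1 h2
    · intro x
      rw [MulAut.mul_apply, ← hα, ← hβ]
      group
  · by_cases h : ∃ m ∈ N, ∃ σ, Acts f m σ ∧ Perm.sign σ = -1
    · right
      obtain ⟨m, hm, σ, hσ, hs⟩ := h
      obtain ⟨x, hx⟩ := hσ.odd hs
      refine ⟨f x * m, N.mul_mem (hSN ⟨x, rfl⟩) hm, hx, fun m' hm' => ?_⟩
      obtain ⟨-, σ', hσ'⟩ := (hN _).1 hm'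
      rcases Int.units_eq_one_or (Perm.sign σ') with h1 | h1
      · left
        obtain ⟨z, hz⟩ := hσ'.mem hC h1
        exact ⟨z, hz.symm⟩
      · right
        have h2 := hσ'.mul hx.inv
        have h4 : Perm.sign (σ' * (swap 0 1)⁻¹ : Perm (Fin (3 + 3))) = 1 := by
          rw [Perm.sign_mul, Perm.sign_inv, h1, Perm.sign_swap (by simp)]
          decide
        obtain ⟨z, hz⟩ := h2.mem hC h4
        exact ⟨f z, ⟨z, rfl⟩, by rw [← hz, inv_mul_cancel_right]⟩
    · left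
      apply le_antisymm _ hSN
      intro m hm
      obtain ⟨-, σ, hσ⟩ := (hN _).1 hm
      rcases Int.units_eq_one_or (Perm.sign σ) with h1 | h1
      · obtain ⟨z, hz⟩ := hσ.mem hC h1
        exact ⟨z, hz.symm⟩
      · exact absurd ⟨m, hm, σ, hσ, h1⟩ h

end Cfsg.Agent.H856.JM
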