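import Cfsg.Agent.H860.JM.Defs
import Cfsg.Agent.H858.FixJ4
import Cfsg.Agent.H856.JM.AutPerm
import Cfsg.Agent.H856.JM.Stab

/-!
# S5580, Part III: subgroups isomorphic to alternating groups, abstract facts (helper856)

* `Moore`-generators of the socle and of the maximal subgroup (`alt5`, `alt6`, `alt7`, `alt8`);
* `card_dvd`, `card_dvd_six` : the order of `M`;
* `false_of_mem`, `false_of_order` : exclusion by a fixed row vector;
* `exists_fixed` : `M` fixes a nonzero row vector if `S` does and `|M : S|` is a power of 2.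
-/

set_option autoImplicit false

open Cfsg

namespace Cfsg.Agent.H856.JM

open Cfsg.Agent.H860.JM

/-- the group `Spor.J4` -/
local notation "𝒢" => Cfsg.Spor.J4

instance : Finite 𝒢 := H858.FixJ4.facts.1

variable {M S : Subgroup 𝒢}

theorem cent_eq_one (h : NL M S) {c : 𝒢} (hc : ∀ x ∈ S, c * x = x * c) : c = 1 := by
  have h1 : c ∈ Subgroup.centralizer (S : Set 𝒢) := by
    rw [Subgroup.mem_centralizer_iff]
    intro x hx
    exact (hc x hx).symm
  rw [h.cent] at h1
  exact Subgroup.mem_bot.1 h1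

/-! ### Orders -/

/-- `M` acts faithfully on `S` -/
theorem exists_aut_hom (h : NL M S) : ∃ φ : M →* MulAut S, Function.Injective φ := by
  refine ⟨(S.normalizerMonoidHom).comp (Subgroup.inclusion h.norm), ?_⟩
  rw [injective_iff_map_eq_one]
  intro m hm
  have h1 : Subgroup.inclusion h.norm m ∈ (S.normalizerMonoidHom).ker := hm
  rw [Subgroup.normalizerMonoidHom_ker, Subgroup.mem_subgroupOf, h.cent] at h1
  exact Subtype.ext (Subgroup.mem_bot.1 h1)

theorem card_dvd_aut (h : NL M S) {T : Type*} [Group T] (e : Nonempty (S ≃* T)) :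
    Nat.card M ∣ Nat.card (MulAut T) := by
  obtain ⟨φ, hφ⟩ := exists_aut_hom h
  obtain ⟨e⟩ := e
  have h1 := Subgroup.card_dvd_of_injective φ hφ
  rwa [Nat.card_congr (MulAut.congr e).toEquiv] at h1

theorem card_dvd (h : NL M S) {n : ℕ} (hn : 4 ≤ n) (h6 : n ≠ 6)
    (e : Nonempty (S ≃* alternatingGroup (Fin n))) : Nat.card M ∣ n.factorial := by
  rw [← card_aut hn h6]
  exact card_dvd_aut h e

theorem card_dvd_six (h : NL M S) (e : Nonempty (S ≃* alternatingGroup (Fin 6))) :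
    Nat.card M ∣ 1440 := by
  rw [← card_aut_six]
  exact card_dvd_aut h e

theorem relIndex_dvd (h : NL M S) {n : ℕ} (hn : 4 ≤ n) (h6 : n ≠ 6)
    (e : Nonempty (S ≃* alternatingGroup (Fin n))) : S.relIndex M ∣ 2 := by
  have h1 := card_dvd h hn h6 e
  have h2 := card_alt (n := n) (by omega)
  have h3 : Nat.card (S.subgroupOf M) * S.relIndex M = Nat.card M := Subgroup.card_mul_index _
  rw [Nat.card_congr (Subgroup.subgroupOfEquivOfLe h.le).toEquiv] at h3
  obtain ⟨e⟩ := e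
  rw [Nat.card_congr e.toEquiv] at h3
  rw [← h2, ← h3, mul_comm 2] at h1
  exact Nat.dvd_of_mul_dvd_mul_left Nat.card_pos h1

theorem relIndex_dvd_six (h : NL M S) (e : Nonempty (S ≃* alternatingGroup (Fin 6))) :
    S.relIndex M ∣ 4 := by
  have h1 := card_dvd_six h e
  have h2 := card_alt (n := 6) (by omega)
  have h3 : Nat.card (S.subgroupOf M) * S.relIndex M = Nat.card M := Subgroup.card_mul_index _
  rw [Nat.card_congr (Subgroup.subgroupOfEquivOfLe h.le).toEquiv] at h3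
  obtain ⟨e⟩ := e
  rw [Nat.card_congr e.toEquiv] at h3
  have h4 : Nat.card (alternatingGroup (Fin 6)) = 360 := by
    have : (6 : ℕ).factorial = 720 := rfl
    omega
  rw [← h3, h4] at h1
  exact Nat.dvd_of_mul_dvd_mul_left (by norm_num : 0 < 360) h1

/-! ### Exclusion by fixed vectors -/

/-- a maximal subgroup fixing a nonzero vector is the stabilizer -/
theorem eq_St (hc : IsCoatom M) {u : Row} (hu : u ≠ 0) (hM : M ≤ St u) : M = St u := by
  by_contra hne
  exact St_ne_top hu (hc.2 _ (lt_of_le_of_ne hM hne))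

theorem false_of_mem (hc : IsCoatom M) {u : Row} (hu : u ≠ 0) (hM : M ≤ St u) {g : 𝒢}
    (hg : ra u g = u) (hgM : g ∉ M) : False := by
  rw [eq_St hc hu hM] at hgM
  exact hgM hg

theorem false_of_order (hc : IsCoatom M) {u : Row} (hu : u ≠ 0) (hM : M ≤ St u) {g : 𝒢}
    (hg : ra u g = u) (hd : ¬ orderOf g ∣ Nat.card M) : False := by
  apply false_of_mem hc hu hM hg
  intro h1
  apply hd
  have := orderOf_dvd_natCard (⟨g, h1⟩ : M)
  rwa [Subgroup.orderOf_mk] at this

/-- an element moving an `S`-fixed vector to a vector not fixed by `S` does not normalize `S` -/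
theorem not_mem_of_move (h : NL M S) {w : Row} (hw : ∀ s ∈ S, ra w s = w) {g s : 𝒢} (hs : s ∈ S)
    (hne : ra (ra w g) s ≠ ra w g) : g ∉ M := by
  intro hg
  apply hne
  have h1 : g * s * g⁻¹ ∈ S := (Subgroup.mem_normalizer_iff.1 (h.norm hg) s).1 hs
  have h2 := hw _ h1
  rw [ra_mul, ra_mul] at h2
  have h3 := ra_inv (g := g⁻¹) (u := ra (ra w g) s) (v := w) h2
  rw [inv_inv] at h3
  exact h3.symm

/-! ### `M` fixes a vector -/

/-- if `S` fixes a nonzero vector and `|M : S|` is a power of two, then `M` fixes a nonzero vector -/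
theorem exists_fixed (h : NL M S) {k : ℕ} (hk : S.relIndex M ∣ 2 ^ k) {u : Row} (hu : u ≠ 0)
    (hS : ∀ s ∈ S, ra u s = u) :
    ∃ w : Row, w ≠ 0 ∧ (∀ s ∈ S, ra w s = w) ∧ ∀ m ∈ M, ra w m = w := by
  classical
  let V : AddSubgroup Row :=
    { carrier := {w | ∀ s ∈ S, ra w s = w}
      zero_mem' := fun s _ => ra_zero s
      add_mem' := by
        intro a b ha hb s hs
        rw [ra_add, ha s hs, hb s hs]
      neg_mem' := by
        intro a ha s hs
        have h1 : -a = a := by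
          ext i
          exact CharTwo.neg_eq _
        rw [h1, ha s hs] }
  have hV : ∀ w, w ∈ V ↔ ∀ s ∈ S, ra w s = w := fun w => Iff.rfl
  have hact : ∀ m ∈ M, ∀ w ∈ V, ra w m ∈ V := by
    intro m hm w hw
    rw [hV] at hw ⊢
    intro s hs
    have h1 : m * s * m⁻¹ ∈ S := (Subgroup.mem_normalizer_iff.1 (h.norm hm) s).1 hs
    have h2 := hw _ h1
    rw [ra_mul, ra_mul] at h2
    have h3 := ra_inv (g := m⁻¹) (u := ra (ra w m) s) (v := w) h2
    rw [inv_inv] at h3
    exact h3.symm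
  let act : MulAction M V :=
    { smul := fun m w => ⟨ra w.1 (m : 𝒢)⁻¹, hact _ (M.inv_mem m.2) _ w.2⟩
      one_smul := by
        intro w
        apply Subtype.ext
        change ra w.1 ((1 : M) : 𝒢)⁻¹ = w.1
        rw [OneMemClass.coe_one, inv_one, ra_one]
      mul_smul := by
        intro m m' w
        apply Subtype.ext
        change ra w.1 ((m * m' : M) : 𝒢)⁻¹ = ra (ra w.1 (m' : 𝒢)⁻¹) (m : 𝒢)⁻¹
        rw [Subgroup.coe_mul, mul_inv_rev, ra_mul] }
  have hsm : ∀ (m : M) (w : V), ((m • w : V) : Row) = ra w.1 (m : 𝒢)⁻¹ := fun _ _ => rfl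
  obtain ⟨P⟩ : Nonempty (Sylow 2 M) := inferInstance
  have h1 : Nat.card V ≡ Nat.card (MulAction.fixedPoints P V) [MOD 2] :=
    IsPGroup.card_modEq_card_fixedPoints P.2 V
  have h2 : 2 ∣ Nat.card V := by
    have h3 : addOrderOf (⟨u, hS⟩ : V) = 2 := by
      apply addOrderOf_eq_prime
      · apply Subtype.ext
        ext i
        rw [two_nsmul]
        exact CharTwo.add_self_eq_zero _
      · intro h4
        exact hu (congrArg Subtype.val h4)
    have h4 := addOrderOf_dvd_natCard (⟨u, hS⟩ : V)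
    rwa [h3] at h4
  have h3 : 2 ∣ Nat.card (MulAction.fixedPoints P V) :=
    (Nat.modEq_zero_iff_dvd.1 (h1.symm.trans (Nat.modEq_zero_iff_dvd.2 h2)))
  have h0 : (0 : V) ∈ MulAction.fixedPoints P V := by
    intro m
    apply Subtype.ext
    exact ra_zero _
  have h4 : ∃ w ∈ MulAction.fixedPoints P V, w ≠ 0 := by
    by_contra hcon
    push Not at hcon
    have h5 : Nat.card (MulAction.fixedPoints P V) = 1 := by
      rw [Nat.card_eq_one_iff_unique]
      refine ⟨⟨fun a b => ?_⟩, ⟨⟨0, h0⟩⟩⟩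
      apply Subtype.ext
      rw [hcon a.1 a.2, hcon b.1 b.2]
    rw [h5] at h3
    omega
  obtain ⟨w, hw, hw0⟩ := h4
  refine ⟨w.1, fun h5 => hw0 (Subtype.ext h5), w.2, ?_⟩
  -- the stabilizer has index dividing a power of two and odd index
  have h5 : (P : Subgroup M) ≤ (St w.1).subgroupOf M := by
    intro m hm
    rw [Subgroup.mem_subgroupOf]
    have h6 := congrArg Subtype.val (hw ⟨m, hm⟩)
    have h7 : ra w.1 (m : 𝒢)⁻¹ = w.1 := h6
    have h8 := ra_inv h7
    rw [inv_inv] at h8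
    exact h8
  have h6 : S.subgroupOf M ≤ (St w.1).subgroupOf M := by
    intro m hm
    rw [Subgroup.mem_subgroupOf] at hm ⊢
    exact w.2 _ hm
  have h7 : ((St w.1).subgroupOf M).index ∣ 2 ^ k :=
    (Subgroup.index_dvd_of_le h6).trans hk
  have h8 : ¬ 2 ∣ ((St w.1).subgroupOf M).index := by
    intro h9
    exact P.not_dvd_index (h9.trans (Subgroup.index_dvd_of_le h5))
  have h9 : ((St w.1).subgroupOf M).index = 1 := by
    obtain ⟨j, hj, hj'⟩ := (Nat.dvd_prime_pow Nat.prime_two).1 h7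
    rcases Nat.eq_zero_or_pos j with rfl | hj0
    · rw [hj', pow_zero]
    · exfalso
      apply h8
      rw [hj']
      exact dvd_pow_self 2 (by omega)
  rw [Subgroup.index_eq_one] at h9
  intro m hm
  have h10 : (⟨m, hm⟩ : M) ∈ (St w.1).subgroupOf M := by rw [h9]; exact Subgroup.mem_top _
  rw [Subgroup.mem_subgroupOf] at h10
  exact h10

/-- exclusion if for every nonzero vector fixed by `S` there is an element of its stabilizer outside `M` -/
theorem false_of_all (h : NL M S) {k : ℕ} (hk : S.relIndex M ∣ 2 ^ k) {u : Row} (hu : u ≠ 0)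
    (hS : ∀ s ∈ S, ra u s = u)
    (hall : ∀ w : Row, w ≠ 0 → (∀ s ∈ S, ra w s = w) → ∃ g, ra w g = w ∧ g ∉ M) : False := by
  obtain ⟨w, hw0, hw, hM⟩ := exists_fixed h hk hu hS
  obtain ⟨g, hg, hgM⟩ := hall w hw0 hw
  exact false_of_mem h.coatom hw0 (fun m hm => hM m hm) hg hgM

/-! ### Generators -/

theorem range_eq {k : ℕ} (f : alternatingGroup (Fin (k + 3)) →* 𝒢)
    (hS : S = Subgroup.closure (Set.range fun i => f (mg k i))) : f.range = S := by
  rw [hS]
  have h1 : (Set.range fun i => f (mg k i)) = f '' Set.range (mg k) := by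
    rw [← Set.range_comp]; rfl
  rw [h1, ← MonoidHom.map_closure, closure_mg, ← MonoidHom.range_eq_map]

/-- `τ` acts as `(0 1)` on the subgroup generated by `y` (a 3-cycle `(0 1 2)`) and `l` -/
structure Tau (τ y : 𝒢) (l : List 𝒢) : Prop where
  ne : τ ≠ 1
  sq : τ * τ = 1
  inv : τ * y * τ⁻¹ = y⁻¹
  comm : ∀ x ∈ l, τ * x = x * τ

theorem dich (h : NL M S) {k : ℕ} (hk : 1 ≤ k) (h3 : k ≠ 3)
    {f : alternatingGroup (Fin (k + 3)) →* 𝒢} (hf : Function.Injective f) (hS : f.range = S) :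
    M = S ∨ ∃ τ ∈ M, Acts f τ (Equiv.swap 0 1) ∧ M = S ⊔ Subgroup.closure {τ} := by
  have hC : ∀ c : 𝒢, (∀ x, c * f x = f x * c) → c = 1 := by
    intro c hc
    apply cent_eq_one h
    intro x hx
    rw [← hS] at hx
    obtain ⟨z, rfl⟩ := hx
    exact hc z
  rcases dichotomy hk h3 hf hC (M := M) (by rw [hS]; exact h.le) (by rw [hS]; exact h.norm) with h1 | h1
  · left
    rw [h1, hS]
  · right
    obtain ⟨τ, hτ, hact, hall⟩ := h1
    refine ⟨τ, hτ, hact, le_antisymm ?_ (sup_le h.le ?_)⟩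
    · intro m hm
      have hτ' : τ ∈ S ⊔ Subgroup.closure {τ} :=
        (le_sup_right : Subgroup.closure {τ} ≤ _) (Subgroup.subset_closure rfl)
      rcases hall m hm with h2 | ⟨s, hs, rfl⟩
      · rw [hS] at h2
        exact (le_sup_left : S ≤ _) h2
      · rw [hS] at hs
        exact Subgroup.mul_mem _ ((le_sup_left : S ≤ _) hs) hτ'
    · rw [Subgroup.closure_le, Set.singleton_subset_iff]
      exact hτ

theorem tau_of {k : ℕ} {f : alternatingGroup (Fin (k + 3)) →* 𝒢} (hf : Function.Injective f)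
    (hC : ∀ c : 𝒢, (∀ x, c * f x = f x * c) → c = 1) {τ : 𝒢} (h : Acts f τ (Equiv.swap 0 1))
    {l : List 𝒢} (hl : ∀ x ∈ l, ∃ i : Fin (k + 1), 1 ≤ i.val ∧ x = f (mg k i)) :
    Tau τ (f (mg k 0)) l := by
  refine ⟨h.ne_one hf, h.sq hC, h.inv_y, fun x hx => ?_⟩
  obtain ⟨i, hi, rfl⟩ := hl x hx
  exact h.comm i hi

theorem alt5 (h : NL M S) (e : Nonempty (S ≃* alternatingGroup (Fin 5))) :
    ∃ y v a, T5 y v a ∧ S = Subgroup.closure {y, v, a} ∧
      (M = S ∨ ∃ τ, Tau τ y [v, a] ∧ M = S ⊔ Subgroup.closure {τ}) := by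
  obtain ⟨f, hf, hS⟩ := exists_hom (k := 2) e
  have hS' := range_eq f hS
  have hC : ∀ c : 𝒢, (∀ x, c * f x = f x * c) → c = 1 := by
    intro c hc
    apply cent_eq_one h
    intro x hx
    rw [← hS'] at hx
    obtain ⟨z, rfl⟩ := hx
    exact hc z
  have hset : (Set.range fun i => f (mg 2 i)) = {f (mg 2 0), f (mg 2 1), f (mg 2 2)} := by
    ext x
    simp only [Set.mem_range, Set.mem_insert_iff, Set.mem_singleton_iff]
    constructor
    · rintro ⟨i, rfl⟩
      fin_cases i <;> simp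
    · rintro (rfl | rfl | rfl)
      exacts [⟨0, rfl⟩, ⟨1, rfl⟩, ⟨2, rfl⟩]
  refine ⟨f (mg 2 0), f (mg 2 1), f (mg 2 2), ⟨⟨tr_ne f hf _, tr_cube f, tr_ne f hf _,
    tr_sq f 1 (by decide), tr_br' f 0 1 (by decide)⟩, tr_ne f hf _, tr_sq f 2 (by decide),
    tr_inv f 2 (by decide), tr_br f 1 2 (by decide)⟩, by rw [hS, hset], ?_⟩
  rcases dich h (by norm_num) (by norm_num) hf hS' with h1 | ⟨τ, -, h1, h2⟩
  · exact Or.inl h1
  · refine Or.inr ⟨τ, tau_of hf hC h1 ?_, h2⟩
    intro x hx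
    simp only [List.mem_cons, List.not_mem_nil, or_false] at hx
    rcases hx with rfl | rfl
    exacts [⟨1, by decide, rfl⟩, ⟨2, by decide, rfl⟩]

theorem alt6 (h : NL M S) (e : Nonempty (S ≃* alternatingGroup (Fin 6))) :
    ∃ y v a b, T6 y v a b ∧ S = Subgroup.closure {y, v, a, b} ∧
      ∃ N : Subgroup 𝒢, S ≤ N ∧ N ≤ M ∧ (∀ m ∈ M, ∀ m' ∈ M, m ∉ N → m' ∉ N → m * m' ∈ N) ∧
      (N = S ∨ ∃ τ, Tau τ y [v, a, b] ∧ N = S ⊔ Subgroup.closure {τ}) := by
  obtain ⟨f, hf, hS⟩ := exists_hom (k := 3) e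
  have hS' := range_eq f hS
  have hC : ∀ c : 𝒢, (∀ x, c * f x = f x * c) → c = 1 := by
    intro c hc
    apply cent_eq_one h
    intro x hx
    rw [← hS'] at hx
    obtain ⟨z, rfl⟩ := hx
    exact hc z
  have hset : (Set.range fun i => f (mg 3 i)) =
      {f (mg 3 0), f (mg 3 1), f (mg 3 2), f (mg 3 3)} := by
    ext x
    simp only [Set.mem_range, Set.mem_insert_iff, Set.mem_singleton_iff]
    constructor
    · rintro ⟨i, rfl⟩
      fin_cases i <;> simp
    · rintro (rfl | rfl | rfl | rfl)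
      exacts [⟨0, rfl⟩, ⟨1, rfl⟩, ⟨2, rfl⟩, ⟨3, rfl⟩]
  refine ⟨f (mg 3 0), f (mg 3 1), f (mg 3 2), f (mg 3 3), ⟨⟨⟨tr_ne f hf _, tr_cube f, tr_ne f hf _,
    tr_sq f 1 (by decide), tr_br' f 0 1 (by decide)⟩, tr_ne f hf _, tr_sq f 2 (by decide),
    tr_inv f 2 (by decide), tr_br f 1 2 (by decide)⟩, tr_ne f hf _, tr_sq f 3 (by decide),
    tr_inv f 3 (by decide), tr_comm f 1 3 (by decide) (by decide), tr_br f 2 3 (by decide)⟩,
    by rw [hS, hset], ?_⟩
  obtain ⟨N, h1, h2, h3, h4⟩ := dichotomy_six hf hC (M := M) (by rw [hS']; exact h.le)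
    (by rw [hS']; exact h.norm)
  rw [hS'] at h1 h4
  refine ⟨N, h1, h2, h3, h4.imp id ?_⟩
  rintro ⟨τ, hτ, hact, hall⟩
  refine ⟨τ, tau_of hf hC hact ?_, le_antisymm ?_ (sup_le h1 ?_)⟩
  · intro x hx
    simp only [List.mem_cons, List.not_mem_nil, or_false] at hx
    rcases hx with rfl | rfl | rfl
    exacts [⟨1, by decide, rfl⟩, ⟨2, by decide, rfl⟩, ⟨3, by decide, rfl⟩]
  · intro m hm
    have hτ' : τ ∈ S ⊔ Subgroup.closure {τ} :=
      (le_sup_right : Subgroup.closure {τ} ≤ _) (Subgroup.subset_closure rfl)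
    rcases hall m hm with h2 | ⟨s, hs, rfl⟩
    · exact (le_sup_left : S ≤ _) h2
    · exact Subgroup.mul_mem _ ((le_sup_left : S ≤ _) hs) hτ'
  · rw [Subgroup.closure_le, Set.singleton_subset_iff]
    exact hτ

theorem alt7 (h : NL M S) (e : Nonempty (S ≃* alternatingGroup (Fin 7))) :
    ∃ y v a b c, T7 y v a b c ∧ S = Subgroup.closure {y, v, a, b, c} ∧
      (M = S ∨ ∃ τ, Tau τ y [v, a, b, c] ∧ M = S ⊔ Subgroup.closure {τ}) := by
  obtain ⟨f, hf, hS⟩ := exists_hom (k := 4) e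
  have hS' := range_eq f hS
  have hC : ∀ c : 𝒢, (∀ x, c * f x = f x * c) → c = 1 := by
    intro c hc
    apply cent_eq_one h
    intro x hx
    rw [← hS'] at hx
    obtain ⟨z, rfl⟩ := hx
    exact hc z
  have hset : (Set.range fun i => f (mg 4 i)) =
      {f (mg 4 0), f (mg 4 1), f (mg 4 2), f (mg 4 3), f (mg 4 4)} := by
    ext x
    simp only [Set.mem_range, Set.mem_insert_iff, Set.mem_singleton_iff]
    constructor
    · rintro ⟨i, rfl⟩
      fin_cases i <;> simp
    · rintro (rfl | rfl | rfl | rfl | rfl)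
      exacts [⟨0, rfl⟩, ⟨1, rfl⟩, ⟨2, rfl⟩, ⟨3, rfl⟩, ⟨4, rfl⟩]
  refine ⟨f (mg 4 0), f (mg 4 1), f (mg 4 2), f (mg 4 3), f (mg 4 4), ⟨⟨⟨⟨tr_ne f hf _, tr_cube f,
    tr_ne f hf _, tr_sq f 1 (by decide), tr_br' f 0 1 (by decide)⟩, tr_ne f hf _,
    tr_sq f 2 (by decide), tr_inv f 2 (by decide), tr_br f 1 2 (by decide)⟩, tr_ne f hf _,
    tr_sq f 3 (by decide), tr_inv f 3 (by decide), tr_comm f 1 3 (by decide) (by decide),
    tr_br f 2 3 (by decide)⟩, tr_ne f hf _, tr_sq f 4 (by decide), tr_inv f 4 (by decide),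
    tr_comm f 1 4 (by decide) (by decide), tr_comm f 2 4 (by decide) (by decide),
    tr_br f 3 4 (by decide)⟩, by rw [hS, hset], ?_⟩
  rcases dich h (by norm_num) (by norm_num) hf hS' with h1 | ⟨τ, -, h1, h2⟩
  · exact Or.inl h1
  · refine Or.inr ⟨τ, tau_of hf hC h1 ?_, h2⟩
    intro x hx
    simp only [List.mem_cons, List.not_mem_nil, or_false] at hx
    rcases hx with rfl | rfl | rfl | rfl
    exacts [⟨1, by decide, rfl⟩, ⟨2, by decide, rfl⟩, ⟨3, by decide, rfl⟩, ⟨4, by decide, rfl⟩]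

theorem alt8 (h : NL M S) (e : Nonempty (S ≃* alternatingGroup (Fin 8))) :
    ∃ y v a b c d, T8 y v a b c d ∧ S = Subgroup.closure {y, v, a, b, c, d} ∧
      (M = S ∨ ∃ τ, Tau τ y [v, a, b, c, d] ∧ M = S ⊔ Subgroup.closure {τ}) := by
  obtain ⟨f, hf, hS⟩ := exists_hom (k := 5) e
  have hS' := range_eq f hS
  have hC : ∀ c : 𝒢, (∀ x, c * f x = f x * c) → c = 1 := by
    intro c hc
    apply cent_eq_one h
    intro x hx
    rw [← hS'] at hx
    obtain ⟨z, rfl⟩ := hx
    exact hc z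
  have hset : (Set.range fun i => f (mg 5 i)) =
      {f (mg 5 0), f (mg 5 1), f (mg 5 2), f (mg 5 3), f (mg 5 4), f (mg 5 5)} := by
    ext x
    simp only [Set.mem_range, Set.mem_insert_iff, Set.mem_singleton_iff]
    constructor
    · rintro ⟨i, rfl⟩
      fin_cases i <;> simp
    · rintro (rfl | rfl | rfl | rfl | rfl | rfl)
      exacts [⟨0, rfl⟩, ⟨1, rfl⟩, ⟨2, rfl⟩, ⟨3, rfl⟩, ⟨4, rfl⟩, ⟨5, rfl⟩]
  refine ⟨f (mg 5 0), f (mg 5 1), f (mg 5 2), f (mg 5 3), f (mg 5 4), f (mg 5 5),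
    ⟨⟨⟨⟨⟨tr_ne f hf _, tr_cube f,
    tr_ne f hf _, tr_sq f 1 (by decide), tr_br' f 0 1 (by decide)⟩, tr_ne f hf _,
    tr_sq f 2 (by decide), tr_inv f 2 (by decide), tr_br f 1 2 (by decide)⟩, tr_ne f hf _,
    tr_sq f 3 (by decide), tr_inv f 3 (by decide), tr_comm f 1 3 (by decide) (by decide),
    tr_br f 2 3 (by decide)⟩, tr_ne f hf _, tr_sq f 4 (by decide), tr_inv f 4 (by decide),
    tr_comm f 1 4 (by decide) (by decide), tr_comm f 2 4 (by decide) (by decide),
    tr_br f 3 4 (by decide)⟩, tr_ne f hf _, tr_sq f 5 (by decide), tr_inv f 5 (by decide),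
    tr_comm f 1 5 (by decide) (by decide), tr_comm f 2 5 (by decide) (by decide),
    tr_comm f 3 5 (by decide) (by decide), tr_br f 4 5 (by decide)⟩, by rw [hS, hset], ?_⟩
  rcases dich h (by norm_num) (by norm_num) hf hS' with h1 | ⟨τ, -, h1, h2⟩
  · exact Or.inl h1
  · refine Or.inr ⟨τ, tau_of hf hC h1 ?_, h2⟩
    intro x hx
    simp only [List.mem_cons, List.not_mem_nil, or_false] at hx
    rcases hx with rfl | rfl | rfl | rfl | rfl
    exacts [⟨1, by decide, rfl⟩, ⟨2, by decide, rfl⟩, ⟨3, by decide, rfl⟩, ⟨4, by decide, rfl⟩,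
      ⟨5, by decide, rfl⟩]

/-! ### Conjugation -/

theorem nl_cj (h : NL M S) (g : 𝒢) : NL (cj g M) (cj g S) := by
  have hinj : Function.Injective (MulAut.conj g : MulAut 𝒢) := (MulAut.conj g).injective
  have e : S ≃* cj g S := Subgroup.equivMapOfInjective S _ hinj
  refine ⟨?_, Subgroup.map_mono h.le, ?_, ?_, ?_, ?_⟩
  · -- maximality
    refine ⟨fun h1 => h.coatom.1 ?_, fun K hK => ?_⟩
    · have h2 := congrArg (Subgroup.comap (MulAut.conj g).toMonoidHom) h1
      rwa [Subgroup.comap_map_eq_self_of_injective hinj, Subgroup.comap_top] at h2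
    · have h1 : M < Subgroup.comap (MulAut.conj g).toMonoidHom K := by
        refine lt_of_le_of_ne (Subgroup.map_le_iff_le_comap.1 hK.le) fun h2 => hK.ne ?_
        rw [h2]
        exact Subgroup.map_comap_eq_self_of_surjective (MulAut.conj g).surjective K
      have h2 := h.coatom.2 _ h1
      have h3 := congrArg (Subgroup.map (MulAut.conj g).toMonoidHom) h2
      rw [Subgroup.map_comap_eq_self_of_surjective (MulAut.conj g).surjective] at h3
      rw [h3, ← MonoidHom.range_eq_map]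
      exact MonoidHom.range_eq_top.2 (MulAut.conj g).surjective
  · -- the normalizer
    rintro _ ⟨m, hm, rfl⟩
    have h1 := Subgroup.mem_normalizer_iff.1 (h.norm hm)
    rw [Subgroup.mem_normalizer_iff]
    intro x
    constructor
    · rintro ⟨s, hs, rfl⟩
      exact ⟨m * s * m⁻¹, (h1 s).1 hs, by rw [map_mul, map_mul, map_inv]⟩
    · rintro ⟨s, hs, h2⟩
      refine ⟨m⁻¹ * s * m, ?_, ?_⟩
      · apply (h1 (m⁻¹ * s * m)).2
        have h3 : m * (m⁻¹ * s * m) * m⁻¹ = s := by group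
        rw [h3]
        exact hs
      · have h4 : (MulAut.conj g).toMonoidHom s = (MulAut.conj g).toMonoidHom m * x *
          ((MulAut.conj g).toMonoidHom m)⁻¹ := h2
        rw [map_mul, map_mul, h4, map_inv]
        group
  · have := h.simple
    exact e.symm.isSimpleGroup
  · intro h1
    apply h.nab
    refine ⟨⟨fun a b => ?_⟩⟩
    apply e.injective
    rw [map_mul, map_mul]
    exact h1.is_comm.comm _ _
  · rw [eq_bot_iff]
    intro c hc
    rw [Subgroup.mem_bot]
    have h1 : g⁻¹ * c * g = 1 := by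
      apply cent_eq_one h
      intro x hx
      have h2 := Subgroup.mem_centralizer_iff.1 hc (g * x * g⁻¹) ⟨x, hx, rfl⟩
      calc g⁻¹ * c * g * x = g⁻¹ * (c * (g * x * g⁻¹)) * g := by group
        _ = x * (g⁻¹ * c * g) := by rw [← h2]; group
    calc c = g * (g⁻¹ * c * g) * g⁻¹ := by group
      _ = 1 := by rw [h1]; group

end Cfsg.Agent.H856.JM
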