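import Cfsg.Agent.H856.JM.A78
import Cfsg.Agent.H265.JM.A6abs

/-!
# S5580, Part III: no maximal subgroup of `J4` has socle `A_6` (helper856)

The 19 quadruples `(y0, v, a, b)`: 12 have an explicit centralizing element (`cen`); in class 5 the three others are conjugate to
`b = 117`; `b = 117` and `b = 31` (class 7) have an element `τ`, the vector `ws` spans `[Fix S, τ]` (`hk`: the identity
`1 + τ = Σ (1 + g) X + c ws`); `b = 26` has no `τ` but an exotic element `g` of the normalizer fixing `u84`; `b = 18` is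
conjugate to `b = 26`.
-/

set_option autoImplicit false
set_option maxRecDepth 100000

open Cfsg

namespace Cfsg.Agent.H856.JM.A6

open Cfsg.Agent.Lib Cfsg.Agent.Lib.F2Mat Cfsg.Agent.Lib.F2MatGroup
open Cfsg.Agent.J4.Rep112
open Cfsg.Agent.H858.VK
open Cfsg.Agent.H878.JM.Base Cfsg.Agent.H878.JM.Elts
open Cfsg.Agent.H111.JM.Eng Cfsg.Agent.H111.JM.Env Cfsg.Agent.H111.JM.TList
open Cfsg.Agent.H856.JM.Small Cfsg.Agent.H856.JM.A78
open Cfsg.Agent.H265.JM.Six
open Cfsg.Agent.H860.JM (NL Excl cj)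

/-- the group `Spor.J4` -/
local notation "𝒢" => Cfsg.Spor.J4

/-! ### General checks -/

theorem toVec_xor (A B : ℕ) : toVec 112 (Nat.xor A B) = toVec 112 A + toVec 112 B := by
  ext j
  rw [Pi.add_apply, toVec_apply, toVec_apply, toVec_apply, ← bz_xor]
  congr 1
  exact Nat.testBit_xor _ _ _

theorem two_row (w : Row) : w + w = 0 := by
  ext j
  exact CharTwo.add_self_eq_zero _

/-- the code of `1 + g` -/
def pl (L : List ℕ) (k : ℕ) : ℕ := Nat.xor (get (F2Mat.one 112) L k) (F2Mat.one 112)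

theorem pl_sound {L : List 𝒢} {L' : List ℕ} (h : List.Forall₂ (Codes 112) (L.map rho) L') (k : ℕ) (w : Row) :
    Matrix.vecMul w (toMat 112 (pl L' k)) = ra w (getG L k) + w := by
  have h1 : toMat 112 (pl L' k) = toMat 112 (get (F2Mat.one 112) L' k) + toMat 112 (F2Mat.one 112) :=
    F2Rank.toMat_xor _ _ _
  have h2 := codes_getG h k
  unfold Codes at h2
  rw [h1, ← h2, F2Mat.toMat_one, Matrix.vecMul_add, Matrix.vecMul_one]
  rfl

/-- the right side of the identity -/
def hs (L : List ℕ) (gs : List (ℕ × ℕ)) (C ws : ℕ) : ℕ :=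
  gs.foldr (fun p acc => Nat.xor acc (F2Mat.mul 112 (pl L p.1) p.2)) (F2Mat.mul 112 C ws)

/-- the identity `1 + τ = Σ (1 + g) X + c ws` -/
def hk (L : List ℕ) (gs : List (ℕ × ℕ)) (C ws t : ℕ) : Bool := Nat.beq (hs L gs C ws) (pl L t)

theorem row_mat {ws : ℕ} (hws : ws < 2 ^ 112) (x : Row) :
    Matrix.vecMul x (toMat 112 ws) = x 0 • toVec 112 ws := by
  ext j
  rw [Matrix.vecMul, dotProduct, Finset.sum_eq_single (0 : Fin 112)]
  · rw [Pi.smul_apply, toVec_apply, toMat_apply, smul_eq_mul]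
    congr 3
    simp
  · intro i _ hi
    rw [toMat_apply, Nat.testBit_eq_false_of_lt, bz_false, mul_zero]
    refine lt_of_lt_of_le hws (Nat.pow_le_pow_right (by norm_num) ?_)
    have h1 : 1 ≤ (i : ℕ) := by
      rcases Nat.eq_zero_or_pos (i : ℕ) with h0 | h0
      · exact absurd (Fin.ext h0) hi
      · exact h0
    omega
  · intro h
    exact absurd (Finset.mem_univ _) h

theorem hs_sound {L : List 𝒢} {L' : List ℕ} (h : List.Forall₂ (Codes 112) (L.map rho) L') (C ws : ℕ) {w : Row}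
    (gs : List (ℕ × ℕ)) (hw : ∀ p ∈ gs, ra w (getG L p.1) = w) :
    Matrix.vecMul w (toMat 112 (hs L' gs C ws)) = Matrix.vecMul w (toMat 112 (F2Mat.mul 112 C ws)) := by
  induction gs with
  | nil => rfl
  | cons p gs ih =>
    have h1 : toMat 112 (hs L' (p :: gs) C ws) =
        toMat 112 (hs L' gs C ws) + toMat 112 (F2Mat.mul 112 (pl L' p.1) p.2) := F2Rank.toMat_xor _ _ _
    rw [h1, Matrix.vecMul_add, ih (fun q hq => hw q (List.mem_cons_of_mem _ hq)), F2Mat.toMat_mul 112 (pl L' p.1),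
      ← Matrix.vecMul_vecMul, pl_sound h, hw p List.mem_cons_self, two_row, Matrix.zero_vecMul, add_zero]

theorem hk_sound {L : List 𝒢} {L' : List ℕ} (h : List.Forall₂ (Codes 112) (L.map rho) L') {gs : List (ℕ × ℕ)}
    {C ws t : ℕ} (hws : ws < 2 ^ 112) (hc : hk L' gs C ws t = true) {w : Row}
    (hw : ∀ p ∈ gs, ra w (getG L p.1) = w) :
    w + ra w (getG L t) = 0 ∨ w + ra w (getG L t) = toVec 112 ws := by
  have h1 := hs_sound h C ws gs hw
  have h2 : hs L' gs C ws = pl L' t := Nat.eq_of_beq_eq_true hc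
  rw [h2, pl_sound h, F2Mat.toMat_mul, ← Matrix.vecMul_vecMul, row_mat hws] at h1
  rw [add_comm w, h1]
  have h3 : ∀ z : ZMod 2, z = 0 ∨ z = 1 := by decide
  rcases h3 (Matrix.vecMul w (toMat 112 C) 0) with h4 | h4
  · left; rw [h4, zero_smul]
  · right; rw [h4, one_smul]

/-- `u` is fixed by the element `k`, and the image of `w` under `k` is not fixed by the element `s` -/
def mv (u w : ℕ) (L : List ℕ) (k s : ℕ) : Bool :=
  cond (Nat.beq (vmul 112 u (get (F2Mat.one 112) L k)) u)
    (cond (Nat.beq (vmul 112 (vmul 112 w (get (F2Mat.one 112) L k)) (get (F2Mat.one 112) L s))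
      (vmul 112 w (get (F2Mat.one 112) L k))) false true) false

theorem ra_code {L : List 𝒢} {L' : List ℕ} (h : List.Forall₂ (Codes 112) (L.map rho) L') (u k : ℕ) :
    ra (toVec 112 u) (getG L k) = toVec 112 (vmul 112 u (get (F2Mat.one 112) L' k)) := by
  unfold ra
  rw [← codes_vmul (codes_getG h k)]

theorem not_beq {a b : ℕ} (h : cond (Nat.beq a b) false true = true) : a ≠ b := by
  intro h0
  subst h0
  rw [Nat.beq_refl] at h
  exact Bool.false_ne_true h

theorem mv_sound {L : List 𝒢} {L' : List ℕ} (h : List.Forall₂ (Codes 112) (L.map rho) L') {u w k s : ℕ}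
    (hc : mv u w L' k s = true) : ra (toVec 112 u) (getG L k) = toVec 112 u ∧
      ra (ra (toVec 112 w) (getG L k)) (getG L s) ≠ ra (toVec 112 w) (getG L k) := by
  unfold mv at hc
  obtain ⟨h1, h2⟩ := CommTest.cond_true hc
  refine ⟨by rw [ra_code h, Nat.eq_of_beq_eq_true h1], fun h3 => ?_⟩
  rw [ra_code h w k, ra_code h _ s] at h3
  exact not_beq h2 (toVec_inj (vmul_lt _ _) (vmul_lt _ _) h3)

/-! ### The data -/

/-- `b = 117`: the vector spanning `[Fix S, τ]` -/
def wsA : ℕ := 3610404542753461781820182727518995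

/-- `b = 117`: a vector with `u + u τ = ws` -/
def uA : ℕ := 1327377220582297702008568703322003

/-- `b = 117`: a vector of `Fix S` -/
def wA : ℕ := 2820749971069206860836352426028014

/-- `b = 117`: the functional -/
def CA : ℕ := 0x100000000000000000000000000000000000000000000000000000000000000000000000000000000000000000000000000000000000000000000000000000000000000000000000000000000000000000000000000000000000000000000000000000000000000000000000000000000000000000000000000000000000000000000000000000000000000000000000000000000000000000000000000000000000000000000000000000000000000000000000000000000000000000000000000000000000000000000000000000000000000000000000000000000000000000000000000000000000000000000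

/-- `b = 117`: the matrices of the identity -/
def gsA : List (ℕ × ℕ) := [
  (282, 0x79ce5d10985192313c478972aae0ad49fa722606e615cdade9edef650000000000000000000000000000de228c8aa36074540580b5061815000000000000000000000000000084ac8aa24db8415b4018822a063b5c3b3887a23461b87f8c2938cd16df8e6989448385c854dc15216e277a4ede688b19091ab1525a5638a634fdcb314f799f257d81ba6ab9e374443909d1d757b15e31f18010576fc68718e1653d11c7d24b403d5e5cd8180f77db46fbd4505f40a57a0c9160499bc1d026f0f0b07e804857fac370cfd57e1cd34c10da41a17ed7020127324dae48344780fae57a8f63c67027513d24218fe86e94e3755d91c8c97743c03fe4c06b2b010765aaa707f8cd52c0a9b926c7df46882d32d4ea1d6e80c9735502e6fb5e19a875951480e82a7dd6c796d1c9ede2b5370737667014ac164ee1a3c51b6ff4006f0c01ef1bbaeab62583e3933f72eb31d37cf5c4fb74dd2ab776307b11de7767cf7a48dee2deeeb3f0e9b596e1e363fb2bbfd1f4df605b0bbb53f7bc5ee3f147f0f827a23cbb31fd7de69b7253b1c98b174a313bf6920090ee370690faafa5c8b7808ade8b9d907fc165280e55f7678a626af5f28b9375249a190ada5ce0dc2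4f4131591013c10f5b896dde8178975acaff9ae287125d726ed276bd9c8bc1f181a99bcb7f589dc5afeadd2b87cad126e702491d75ec468d1752b672f3b6317cde1b18f78814173184ce5eb92539e203ea39ce839561046d125fc6a6b39b48a99ea1c76d7a949a2aad6cf448ca28ad97185ddbb8454ae97fb1a7b2cbcde01a021d1b164c40492d0642b83d585a2e2e5d2c50f1118503f9a8f6bd952d2ddf073af238760703bc3dbdf43ea9182bf00ff6dfccd664fd77ffa6081dff5d91a44a2eef8be8b427d303acd490a6b0f9af77a777711ed7ba564f16122dbc1ed9eb72d7abb7c1637b1f7bebc6746ad62a0d10c15c16228b7b8d76f5ddb1aefa03b9d44aaf9b620bd92ff6595a2fb95c5c7957aec9fa9b3be45fd42289a11c6b008fd9c0aec88ed3c1292dfb92419787af8281696c85fae1e2d75c6b3a2965de49017e0cd8f0a38421e2ebf559338d893e8a674c8572f391cc9756357d609239916fb73061e95772b1e47a6710e4e83fee559d866a7f7791f627e8a7beaeca52cf42414168a3cfd25af290c68ab3514630d2bb11a6a1244e2860fff53f4d4ec1c8c29513550471f20c29693b2ff63c955dedfabe6e850f67e952bdf0b5b252360fd069b2211246b66bba385c2ee534d01573000552fb8f1997b34f060a56c47deeaea3ac1f84b91c9ee272ca00fe9f53e9f9efe6b0caa912a983d1f53cb360bfe1e5289181c1c6dc58a124749a5bd289cb53deb1ee1cef1a38defbd233ac09bfd12b1cb8946a462398fba502530c7cdfdccc3c2178b3520d2ace179a2d721751af7566f02a7a3d24bbe825cf96eec592abf389b94),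
  (268, 0x723a8803bb0443cf1a47acbf8ed47160b16c93867060c49531d516ac4202a19932016e7b9da83daa49b8844c6b1716aae9464f201435fd3878882d221eed3bb7ade008f7d2d33ed84edfed8af80755e40c0337d0591d9911dd9b4b9e39e77c149e7f76c20e45fb88a5fdcc037d2561b858412846339d80ce7353e3078385a5b85f810ae687ce18ca1e81f9f874b06d12cd8c2cb0c7ffd107876c793a905b7486f78a231426c50dad262616e9fb03e929bffa6ec2a1c3214f6d47cddd69ecc769b4a1dd6cc9c2bfff5b25a4f8a205dc24bbc3fb22b11065ce4bf89dfe09d7d9ac180149ebc29f5ade0d358531ceec9f23cec976719e9f0be97d0df8e87fc49e25f28ee9476136f5266743e4e0c7771065da1a5bb0be4128383c1174590a1f762ece9b1e3408a899b8362b5082bd7df53a56646b2bb369d24c59f135852fc6f11825ad107ad64c80e3ac8f21ed334ead9334d5c416e633a4950ddc9083033a),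
  (221, 0xaf5faf5ffaf3ffbffbaeb5fdbed700000000000000000000000000000000000000000000000000000000576b3dfe2fea2e3ef3edfbc208d20000000000000000000000000000b201b6413d31e07df25c1f686b1300000000000000000000000000000000000000000000000000000000576b3dfe2fea2e3ef3edfbc208d21d5e191ec7c21fc209f2aa95d5c4),
  (117, 0x4dfe49bec2ce1f820da3e09794ec0000000000000000000000000000ffffffffffffffffffffffffffff)]

/-- `b = 31`: the vector spanning `[Fix S, τ]` -/
def wsB : ℕ := 1004240453915372860918926697624280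

/-- `b = 31`: a vector with `u + u τ = ws` -/
def uB : ℕ := 255642333034984771122947805042380

/-- `b = 31`: a vector of `Fix S` -/
def wB : ℕ := 2697459623356898117614519290133187

/-- `b = 31`: the functional -/
def CB : ℕ := 26959946667150639794667015087019630673637144422540572481103610249216

/-- `b = 31`: the matrices of the identity -/
def gsB : List (ℕ × ℕ) := [
  (282, 0x6090f5f2c0c3a8a67ba0ef8e9c435fcb36294b5c4189f4fb04f27a7d00000000000000000000000000002bd25e66c1eabc988362cde85d410000000000000000000000000000c9fb90fb8236b0e810211d70210899f325d1729dbf312b0ed39213329b363246c4f9cc57d919cf230283232547716237c0590d6174f6ebe5bc45aec4cfa50bd183a665e7977acc1f662d7f886f59cf597b186114944a3042969ee411706b791334a739487544afaac270a855070e44eb644d1bde72dcc40824dc9e008b5c65a2363f2d8a229ff28d6f4da6487ca21a86892873d0d8450d982774c92be4751e2c9efc2a54c2cafcac26e4df0156015985d304edc823082bdb74c9cf3926d24c94bae169e15070f80ea8064ac86df25df051fb9847838562ffd6e5a5c8ff75fc083b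7dc6c9f4e099077ab694df0918e5d1eee207ff69bb98a327cb6aeba1bfaa866c666e2a6c3172f2f1afaf35423f33b128d52f281e2df1acad232cab5156f8c795746bd827567ac90d14ddbddd43e2e949258fd729af0d33fa1abffa9071ef887fbc80e7f94dac8f4367c76037b50999783ac549f6a574c73bb2141c586f8f002409caddfa5d10b0aeca67dbccf098ba32e915a76c8748e566b6fdb85ae4555d534c875132f0b4c521125ab4f9ad622de9ea241dc826b6a02a76631b4e781142640eab7786026cea0309b757c1d5d67ba2d06b9bb57c99a91cab61d3eba482dea806d6b8bfc652acc4a968e828fd5be7cbf9ffb457d1a4b507d7d66b0abe6498d0e4b868f820168e52ab2de2dcdf745c0c12bb4ad58d8bc4dfc445d7211ef09129bf9267935041e1c1a1614e257ccc14b18728fb80a1be46707a4f7272dce9a3452204952d6f61ee66ee1660a590f0f5e69064d4e6cdf9cce481d8f93684fa1d53d5ccb84335cbe02fb8b81286ee665c6a841386ed4a9a16e396db51a44e219df1b2b7320d64bfb5a99083ce8d12a99fe8f33d9c786eaefe8169b72156a8763a1ac3ae430e2b205b1a7274f27fd5200a2e99affda5f27fbc007946f5fa4c9ab55635dab6c5809c9968a89dfaba1ddd2d3d8eb4f56e53cd13375f1f4c9e2dce1a1574f470ae2ce3b0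de759c1195abe61c5ab6ba442181f61092de99820353f5f449d196c5bcfcc9f55a4773add5b7be0be19e862a2d9c4966dbdf52ad742df1e010be5c89d21a341b3584202a63224fd73654bd3b7c49bf55bcf3995a70ff1d64b164551581a96d9f24dbfdb7e0bf61861c5914b90920345b07d5a8b6ad5d9b68375efe7d71d2b5f09f773f4d68e23f6b95c0d0ad00ac78e06afac475f0524db19a15d48b84d45ab26c768574bdd589a024433188f2af611b6526c88057eb7a29522fa4a1000adadab8138a611a07d62e89dcfcb5350a0a4cfbaa7274c664f391341dab4905194b543be8fac337f7c0f74f498d1854eaf6bb22ebcca2d2150327f1487bf61a7a),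
  (266, 0x67213274e2f7390040aa8514ac9695c1277d7401c353b2cfdcacbba600000000000000000000000000000000000000000000000000000000cfaba902dc1bfcd6dff2ee68b1a0f5b6ec40504a532de5ade25ecba2c2611e5c7f558a44b96a24771e0eb047a89d5bbe55a50c69741ca169a9d6d75b9d8fd159ed9da0c15bee05fb0dd3d48bd69ffc39dc9ce97c3c83fa88b4dcf0b565ab8160dce73061d879a7f0d920e84b737535d0138e8102fa8b5c3931bcc73da873e00756a24b0a64d76a5a37d28a148d702cfe0a66d54e445ba628d42f15b1bae21b4037fa8ff7d58c41b65d1df0a2ebe694f54a57058f2a749328f2585ac3e63f0483d31e8f0a4233b73a901a4d49c4f5d0a98af665879469fdbabaad2746056ed8e7053a596b1f987da66fdf5e8b2972e9fd19c1c7b00340c8c266b224b9da3827194755f88810a2c61a9efea64e1c246e8b596da4490a5933b0233156549a4606502de83f18935d7eb3fedf21888c56d15b209ac41963fa4be28e2a7d7eabf3f7d1d0e4),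
  (206, 0x688c778f95e76706d2384d66b747000000000000000000000000000031834be9d1fbd1521cc82e68f2d800000000000000000000000000000000000000000000000000000000590f3c66441cb654cef0630e459ff2977fe680b980711bdddb5c8579ab984380c4a53625d52db852c0e6ab984380c4a53625d52db852c0e6f2977fe680b980711bdddb5c8579),
  (31, 0x84feba1f95ddf9517f7e04ff7ac30000000000000000000000000000b57df1f64426280363b62a97881b0000000000000000000000000000)]

/-- `b = 26`: the vector fixed by `S` and by the exotic element -/
def uE : ℕ := 2766336385901409136750131439021071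

/-- `b = 26`: a vector fixed by `S`, not by the exotic element -/
def wE : ℕ := 2699740290274880999208029902346755

/-- `b = 26`: a vector fixed by `S` -/
def wF : ℕ := 2699740290274880999208029902346755

/-- the exotic element (first entry), 13 steps -/
def slx : List (List ℕ) := [[26, 43], [0, 283], [0, 28], [0, 209], [210, 286, 210], [0, 31], [0, 212, 0], [3, 0, 213, 4, 0, 3], [3, 7, 214, 274, 214], [2, 215, 275, 215, 7, 2, 0], [5, 276, 216, 292, 276], [4, 277, 6, 217, 277, 293, 4, 0], [294, 218, 38, 4, 3, 2, 2, 1, 0, 0, 4]]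

/-- its relations: `x g = g x'` -/
def rx : List (ℕ × List ℕ) := [(295, [295, 219, 39]), (279, [279, 295, 219, 279]), (219, [295, 219, 39, 219]), (39, [219, 295])]

/-- the positions of `v`, `a`, `b` and of an element commuting with `y0`, `v`, `a`, `b` -/
def cen : List (ℕ × ℕ × ℕ × ℕ) := [(270, 235, 221, 3), (270, 235, 171, 3), (270, 235, 163, 2), (270, 235, 154, 3), (270, 235, 150, 3), (270, 235, 138, 2), (269, 228, 132, 3), (269, 228, 119, 3), (268, 221, 101, 2), (268, 221, 78, 2), (268, 221, 66, 2), (267, 209, 54, 2)]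

/-- the generators -/
def gA : List ℕ := [282, 268, 221, 117]

/-- the generators -/
def gB : List ℕ := [282, 266, 206, 31]

/-- the generators -/
def gE : List ℕ := [282, 266, 206, 26]

/-- relations in `LE` -/
def esx : List (List ℕ × List ℕ) := [([255, 282], [282, 255]), ([255, 268], [268, 255]), ([255, 221], [221, 255]),
  ([2, 282], [282, 2]), ([2, 268], [268, 2]), ([2, 221], [221, 2]),
  ([255, 108], [117, 255]), ([255, 2, 94], [117, 255, 2]), ([2, 86], [117, 2]),
  ([65, 65], []), ([65, 282, 65, 282], []), ([65, 268], [268, 65]), ([65, 221], [221, 65]), ([65, 117], [117, 65]),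
  ([17, 17], []), ([17, 282, 17, 282], []), ([17, 266], [266, 17]), ([17, 206], [206, 17]), ([17, 31], [31, 17]),
  ([17, 18], [26, 17])]

/-- inequations in `LE` -/
def nsx : List (List ℕ × List ℕ) := [([65], []), ([17], []), ([17, 26], [26, 17])]

/-- all checks -/
def chks (L : List ℕ) : Bool :=
  cond (cen.all fun p => cond (eqs 112 [([p.2.2.2, 282], [282, p.2.2.2]), ([p.2.2.2, p.1], [p.1, p.2.2.2]),
        ([p.2.2.2, p.2.1], [p.2.1, p.2.2.2]), ([p.2.2.2, p.2.2.1], [p.2.2.1, p.2.2.2])] L)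
        (neqs 112 [([p.2.2.2], [])] L) false)
  (cond (eqs 112 esx L) (cond (neqs 112 nsx L)
  (cond (fx uA L gA) (cond (fx wA L gA) (cond (Nat.beq (Nat.xor uA (vmul 112 uA (get (F2Mat.one 112) L 65))) wsA)
  (cond (mv wsA wA L 66 221) (cond (hk L gsA CA wsA 65)
  (cond (fx uB L gB) (cond (fx wB L gB) (cond (Nat.beq (Nat.xor uB (vmul 112 uB (get (F2Mat.one 112) L 17))) wsB)
  (cond (mv wsB wB L 71 266) (cond (hk L gsB CB wsB 17)
  (cond (fx uE L gE) (cond (fx wE L gE) (cond (fx wF L gE) (cond (mv uE wF L 277 266)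
  (run 112 slx L fun L3 => cond (fx uE L3 [0])
    (cond (cond (Nat.beq (vmul 112 wE (get (F2Mat.one 112) L3 0)) wE) false true)
      (rx.all fun p => eqs 112 [([p.1, 0], 0 :: p.2)] L3) false) false)
  false) false) false) false) false) false) false) false) false) false) false) false) false) false) false) false) false

theorem chk : run 112 (slpJ ++ slpE) codes chks = true := by decide +kernel

/-- equations -/
theorem eq_of {es : List (List ℕ × List ℕ)} {L : List 𝒢} {L' : List ℕ}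
    (h : List.Forall₂ (Codes 112) (L.map rho) L') (hc : eqs 112 es L' = true) {q : List ℕ × List ℕ} (hq : q ∈ es) :
    evG L q.1 = evG L q.2 := by
  apply rho_injective
  rw [← evG_map, ← evG_map]
  exact eqs_sound h hc q hq

theorem ne_of {es : List (List ℕ × List ℕ)} {L : List 𝒢} {L' : List ℕ}
    (h : List.Forall₂ (Codes 112) (L.map rho) L') (hc : neqs 112 es L' = true) {q : List ℕ × List ℕ} (hq : q ∈ es) :
    evG L q.1 ≠ evG L q.2 := by
  intro h0
  have h1 := congrArg rho h0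
  rw [← evG_map, ← evG_map] at h1
  exact neqs_sound (by norm_num) h hc q hq h1

/-- the facts for `b = 117` and `b = 31` -/
structure TFacts (v a b t k s u w ws : ℕ) : Prop where
  u_fix : ∀ x ∈ [282, v, a, b], ra (toVec 112 u) (getG LE x) = toVec 112 u
  w_fix : ∀ x ∈ [282, v, a, b], ra (toVec 112 w) (getG LE x) = toVec 112 w
  uw : toVec 112 u + ra (toVec 112 u) (getG LE t) = toVec 112 ws
  mv : ra (toVec 112 ws) (getG LE k) = toVec 112 ws ∧
    ra (ra (toVec 112 w) (getG LE k)) (getG LE s) ≠ ra (toVec 112 w) (getG LE k)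
  hK : ∀ x : Row, (∀ z ∈ [282, v, a, b], ra x (getG LE z) = x) →
    x + ra x (getG LE t) = 0 ∨ x + ra x (getG LE t) = toVec 112 ws

/-- the facts -/
structure Facts : Prop where
  cent : ∀ p ∈ cen, getG LE p.2.2.2 ≠ 1 ∧ getG LE p.2.2.2 * y0 = y0 * getG LE p.2.2.2 ∧
    getG LE p.2.2.2 * getG LE p.1 = getG LE p.1 * getG LE p.2.2.2 ∧
    getG LE p.2.2.2 * getG LE p.2.1 = getG LE p.2.1 * getG LE p.2.2.2 ∧
    getG LE p.2.2.2 * getG LE p.2.2.1 = getG LE p.2.2.1 * getG LE p.2.2.2
  es : ∀ q ∈ esx, evG LE q.1 = evG LE q.2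
  ns : ∀ q ∈ nsx, evG LE q.1 ≠ evG LE q.2
  fA : TFacts 268 221 117 65 66 221 uA wA wsA
  fB : TFacts 266 206 31 17 71 266 uB wB wsB
  uE_fix : ∀ x ∈ gE, ra (toVec 112 uE) (getG LE x) = toVec 112 uE
  wE_fix : ∀ x ∈ gE, ra (toVec 112 wE) (getG LE x) = toVec 112 wE
  wF_fix : ∀ x ∈ gE, ra (toVec 112 wF) (getG LE x) = toVec 112 wF
  mvE : ra (toVec 112 uE) (getG LE 277) = toVec 112 uE ∧
    ra (ra (toVec 112 wF) (getG LE 277)) (getG LE 266) ≠ ra (toVec 112 wF) (getG LE 277)
  exo : ∃ g : 𝒢, ra (toVec 112 uE) g = toVec 112 uE ∧ ra (toVec 112 wE) g ≠ toVec 112 wE ∧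
    ∀ K : Subgroup 𝒢, (∀ x ∈ gE, getG LE x ∈ K) → ∀ x ∈ gE, g⁻¹ * getG LE x * g ∈ K

theorem evG_memL {L : List 𝒢} {K : Subgroup 𝒢} (w : List ℕ) (h : ∀ k ∈ w, getG L k ∈ K) : evG L w ∈ K := by
  induction w with
  | nil => exact K.one_mem
  | cons k w ih =>
    rw [evG_cons]
    exact K.mul_mem (h k List.mem_cons_self) (ih fun z hz => h z (List.mem_cons_of_mem _ hz))

theorem get_old (k : ℕ) : getG (runG slx LE) (13 + k) = getG LE k :=
  getG_runG_old slx LE (by decide) k

theorem facts : Facts := by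
  obtain ⟨L2, h2, h⟩ := Cfsg.Agent.H878.JM.Elts.run_env chk
  unfold chks at h
  obtain ⟨a0, h⟩ := CommTest.cond_true h
  obtain ⟨a1, h⟩ := CommTest.cond_true h
  obtain ⟨a2, h⟩ := CommTest.cond_true h
  obtain ⟨b1, h⟩ := CommTest.cond_true h
  obtain ⟨b2, h⟩ := CommTest.cond_true h
  obtain ⟨b3, h⟩ := CommTest.cond_true h
  obtain ⟨b4, h⟩ := CommTest.cond_true h
  obtain ⟨b5, h⟩ := CommTest.cond_true h
  obtain ⟨c1, h⟩ := CommTest.cond_true h
  obtain ⟨c2, h⟩ := CommTest.cond_true h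
  obtain ⟨c3, h⟩ := CommTest.cond_true h
  obtain ⟨c4, h⟩ := CommTest.cond_true h
  obtain ⟨c5, h⟩ := CommTest.cond_true h
  obtain ⟨d1, h⟩ := CommTest.cond_true h
  obtain ⟨d2, h⟩ := CommTest.cond_true h
  obtain ⟨d3, h⟩ := CommTest.cond_true h
  obtain ⟨d4, h⟩ := CommTest.cond_true h
  obtain ⟨L3, h3, h⟩ := run_sound h2 h
  rw [runG_map] at h3
  obtain ⟨e1, h⟩ := CommTest.cond_true h
  obtain ⟨e2, e3⟩ := CommTest.cond_true h
  refine ⟨?_, fun q hq => eq_of h2 a1 hq, fun q hq => ne_of h2 a2 hq,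
    ⟨fun x hx => fx_sound h2 b1 hx, fun x hx => fx_sound h2 b2 hx, ?_, mv_sound h2 b4, ?_⟩,
    ⟨fun x hx => fx_sound h2 c1 hx, fun x hx => fx_sound h2 c2 hx, ?_, mv_sound h2 c4, ?_⟩,
    fun x hx => fx_sound h2 d1 hx, fun x hx => fx_sound h2 d2 hx, fun x hx => fx_sound h2 d3 hx, mv_sound h2 d4, ?_⟩
  · intro p hp
    rw [List.all_eq_true] at a0
    obtain ⟨f1, f2⟩ := CommTest.cond_true (a0 p hp)
    have g1 := eq_of h2 f1 (q := ([p.2.2.2, 282], [282, p.2.2.2])) (by simp)
    have g2 := eq_of h2 f1 (q := ([p.2.2.2, p.1], [p.1, p.2.2.2])) (by simp)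
    have g3 := eq_of h2 f1 (q := ([p.2.2.2, p.2.1], [p.2.1, p.2.2.2])) (by simp)
    have g4 := eq_of h2 f1 (q := ([p.2.2.2, p.2.2.1], [p.2.2.1, p.2.2.2])) (by simp)
    simp only [evG_cons, evG_nil, mul_one, e_y0] at g1 g2 g3 g4
    refine ⟨fun h0 => ?_, g1, g2, g3, g4⟩
    apply ne_of h2 f2 (q := ([p.2.2.2], [])) (by simp)
    rw [evG_cons, evG_nil, mul_one, h0]
  · rw [ra_code h2, ← toVec_xor, Nat.eq_of_beq_eq_true b3]
  · intro x hx
    refine hk_sound h2 (by decide +kernel) b5 fun p hp => ?_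
    have h4 : p.1 ∈ [282, 268, 221, 117] := List.mem_map.2 ⟨p, hp, rfl⟩
    exact hx _ h4
  · rw [ra_code h2, ← toVec_xor, Nat.eq_of_beq_eq_true c3]
  · intro x hx
    refine hk_sound h2 (by decide +kernel) c5 fun p hp => ?_
    have h4 : p.1 ∈ [282, 266, 206, 31] := List.mem_map.2 ⟨p, hp, rfl⟩
    exact hx _ h4
  · refine ⟨getG (runG slx LE) 0, fx_sound h3 e1 (by simp), ?_, ?_⟩
    · intro h4
      rw [ra_code h3] at h4
      exact not_beq e2 (toVec_inj (vmul_lt _ _) (by decide +kernel) h4)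
    · intro K hK
      have hK' : ∀ x ∈ gE.map (fun k => 13 + k), getG (runG slx LE) x ∈ K := by
        intro x hx
        obtain ⟨k, hk, rfl⟩ := List.mem_map.1 hx
        rw [get_old]
        exact hK k hk
      have h5 : ∀ p ∈ rx, (getG (runG slx LE) 0)⁻¹ * getG (runG slx LE) p.1 * getG (runG slx LE) 0 ∈ K := by
        intro p hp
        rw [List.all_eq_true] at e3
        have h6 := eq_of h3 (e3 p hp) (q := ([p.1, 0], 0 :: p.2)) (by simp)
        rw [evG_cons, evG_cons, evG_nil, mul_one, evG_cons] at h6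
        rw [mul_assoc, h6, inv_mul_cancel_left]
        have h7 : ∀ p ∈ rx, ∀ k ∈ p.2, k ∈ gE.map (fun k => 13 + k) := by decide
        exact evG_memL _ fun k hk => hK' k (h7 p hp k hk)
      have h8 : ∀ x ∈ gE, ∃ p ∈ rx, p.1 = 13 + x := by decide
      intro x hx
      obtain ⟨p, hp, h9⟩ := h8 x hx
      have h10 := h5 p hp
      rwa [h9, get_old] at h10

theorem wsA_ne : toVec 112 wsA ≠ 0 := by
  intro h
  have h1 := congrFun h 0
  rw [toVec_apply] at h1
  revert h1
  decide +kernel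

theorem wsB_ne : toVec 112 wsB ≠ 0 := by
  intro h
  have h1 := congrFun h 3
  rw [toVec_apply] at h1
  revert h1
  decide +kernel

theorem uE_ne : toVec 112 uE ≠ 0 := by
  intro h
  have h1 := congrFun h 0
  rw [toVec_apply] at h1
  revert h1
  decide +kernel

/-! ### The row -/

variable {M S : Subgroup 𝒢}

/-- exclusion by an element of the centralizer -/
theorem false_cent {y v a b x : 𝒢} (h : Cfg M S y v a b) (hx : x ≠ 1) (h1 : x * y = y * x) (h2 : x * v = v * x)
    (h3 : x * a = a * x) (h4 : x * b = b * x) : False := by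
  have hle : S ≤ Subgroup.centralizer {x} := by
    rw [h.cl, Subgroup.closure_le]
    intro z hz
    show z ∈ Subgroup.centralizer {x}
    rw [Subgroup.mem_centralizer_singleton_iff]
    simp only [Set.mem_insert_iff, Set.mem_singleton_iff] at hz
    rcases hz with rfl | rfl | rfl | rfl
    exacts [h1.symm, h2.symm, h3.symm, h4.symm]
  apply hx
  apply cent_eq_one h.nl
  intro z hz
  exact (Subgroup.mem_centralizer_singleton_iff.1 (hle hz)).symm

theorem false_cen {p : ℕ × ℕ × ℕ × ℕ} (hp : p ∈ cen) {v a b : 𝒢} (h : Cfg M S y0 v a b) (h1 : v = getG LE p.1)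
    (h2 : a = getG LE p.2.1) (h3 : b = getG LE p.2.2.1) : False := by
  subst h1 h2 h3
  obtain ⟨c0, c1, c2, c3, c4⟩ := facts.cent p hp
  exact false_cent h c0 c1 c2 c3 c4

/-- the vectors fixed by the generators -/
theorem fix4 {v a b : ℕ} (h : Cfg M S y0 (getG LE v) (getG LE a) (getG LE b)) {u : Row}
    (hu : ∀ x ∈ [282, v, a, b], ra u (getG LE x) = u) : ∀ s ∈ S, ra u s = u :=
  h.fix (by rw [← e_y0]; exact hu 282 (by simp)) (hu v (by simp)) (hu a (by simp)) (hu b (by simp))

/-- the configurations with `τ` -/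
theorem false_tau {v a b t k s u w ws : ℕ} (f : TFacts v a b t k s u w ws) (h0 : toVec 112 ws ≠ 0)
    (hs : s ∈ [282, v, a, b]) (h : Cfg M S y0 (getG LE v) (getG LE a) (getG LE b))
    (hT : Tau (getG LE t) y0 [getG LE v, getG LE a, getG LE b]) : False := by
  have hmem := h.mem
  have hM := h.fixed_of_comm hT h0 (u := toVec 112 u) (fun x hx => f.hK x fun z hz => ?_) (fix4 h f.u_fix) f.uw
  · refine false_of_mem h.nl.coatom h0 hM f.mv.1 (not_mem_of_move h.nl (fix4 h f.w_fix) ?_ f.mv.2)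
    simp only [List.mem_cons, List.not_mem_nil, or_false] at hs
    rcases hs with rfl | rfl | rfl | rfl
    · rw [e_y0]; exact hmem.1
    · exact hmem.2.1
    · exact hmem.2.2.1
    · exact hmem.2.2.2
  · simp only [List.mem_cons, List.not_mem_nil, or_false] at hz
    rcases hz with rfl | rfl | rfl | rfl
    · rw [e_y0]; exact hx _ hmem.1
    · exact hx _ hmem.2.1
    · exact hx _ hmem.2.2.1
    · exact hx _ hmem.2.2.2

theorem inv_of_two {t y : 𝒢} (h1 : t * t = 1) (h2 : t * (y * (t * y)) = 1) : t * y * t⁻¹ = y⁻¹ := by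
  have h3 : t⁻¹ = t := inv_eq_of_mul_eq_one_left h1
  rw [h3]
  refine (inv_eq_of_mul_eq_one_left ?_).symm
  rw [← h2]; simp only [mul_assoc]

theorem tauA : Tau (getG LE 65) y0 [getG LE 268, getG LE 221, getG LE 117] := by
  have e1 := facts.es ([65, 65], []) (by simp [esx])
  have e2 := facts.es ([65, 282, 65, 282], []) (by simp [esx])
  have e3 := facts.es ([65, 268], [268, 65]) (by simp [esx])
  have e4 := facts.es ([65, 221], [221, 65]) (by simp [esx])
  have e5 := facts.es ([65, 117], [117, 65]) (by simp [esx])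
  have e6 := facts.ns ([65], []) (by simp [nsx])
  simp only [evG_cons, evG_nil, mul_one, e_y0] at e1 e2 e3 e4 e5 e6
  refine ⟨e6, e1, inv_of_two e1 e2, ?_⟩
  intro x hx
  simp only [List.mem_cons, List.not_mem_nil, or_false] at hx
  rcases hx with rfl | rfl | rfl
  exacts [e3, e4, e5]

theorem tauB : Tau (getG LE 17) y0 [getG LE 266, getG LE 206, getG LE 31] := by
  have e1 := facts.es ([17, 17], []) (by simp [esx])
  have e2 := facts.es ([17, 282, 17, 282], []) (by simp [esx])
  have e3 := facts.es ([17, 266], [266, 17]) (by simp [esx])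
  have e4 := facts.es ([17, 206], [206, 17]) (by simp [esx])
  have e5 := facts.es ([17, 31], [31, 17]) (by simp [esx])
  have e6 := facts.ns ([17], []) (by simp [nsx])
  simp only [evG_cons, evG_nil, mul_one, e_y0] at e1 e2 e3 e4 e5 e6
  refine ⟨e6, e1, inv_of_two e1 e2, ?_⟩
  intro x hx
  simp only [List.mem_cons, List.not_mem_nil, or_false] at hx
  rcases hx with rfl | rfl | rfl
  exacts [e3, e4, e5]

theorem false_117 (h : Cfg M S y0 (getG LE 268) (getG LE 221) (getG LE 117)) : False :=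
  false_tau facts.fA wsA_ne (by decide) h tauA

theorem false_31 (h : Cfg M S y0 (getG LE 266) (getG LE 206) (getG LE 31)) : False :=
  false_tau facts.fB wsB_ne (by decide) h tauB

theorem conj_eq {d x z : 𝒢} (h : d * x = z * d) : d * x * d⁻¹ = z := by
  rw [h, mul_inv_cancel_right]

/-- reduction to `b = 117` -/
theorem false_117' {b : ℕ} {d : 𝒢} (h1 : d * y0 = y0 * d) (h2 : d * getG LE 268 = getG LE 268 * d)
    (h3 : d * getG LE 221 = getG LE 221 * d) (h4 : d * getG LE b = getG LE 117 * d)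
    (h : Cfg M S y0 (getG LE 268) (getG LE 221) (getG LE b)) : False := by
  have h5 := h.conj d
  rw [conj_eq h1, conj_eq h2, conj_eq h3, conj_eq h4] at h5
  exact false_117 h5

theorem false_26 (hcard : Nat.card {t // TY t} ≤ 10296) {y : 𝒢} (hy : y = y0 ∨ y = y0⁻¹)
    (h : Cfg M S y (getG LE 266) (getG LE 206) (getG LE 26)) : False := by
  have hmem := h.mem
  have hy0 : y0 ∈ S := by
    rcases hy with rfl | rfl
    · exact hmem.1
    · exact (inv_mem_iff (x := (y0 : 𝒢)) (H := S)).1 hmem.1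
  have hgen : ∀ x ∈ gE, getG LE x ∈ S := by
    intro x hx
    simp only [gE, List.mem_cons, List.not_mem_nil, or_false] at hx
    rcases hx with rfl | rfl | rfl | rfl
    · rw [e_y0]; exact hy0
    · exact hmem.2.1
    · exact hmem.2.2.1
    · exact hmem.2.2.2
  have hfix : ∀ {u : Row}, (∀ x ∈ gE, ra u (getG LE x) = u) → ∀ s ∈ S, ra u s = u := by
    intro u hu
    have h1 : ra u y0 = u := by rw [← e_y0]; exact hu 282 (by simp [gE])
    refine h.fix ?_ (hu 266 (by simp [gE])) (hu 206 (by simp [gE])) (hu 26 (by simp [gE]))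
    rcases hy with rfl | rfl
    · exact h1
    · exact ra_inv h1
  have hno : ∀ τ, ¬ Tau τ y [getG LE 266, getG LE 206, getG LE 26] := by
    intro τ hτ
    have h1 : TY τ := by
      refine ⟨hτ.sq, ?_⟩
      rcases hy with rfl | rfl
      · exact hτ.inv
      · have h2 := hτ.inv
        have h3 : τ * y0 * τ⁻¹ = (τ * y0⁻¹ * τ⁻¹)⁻¹ := by group
        rw [h3, h2, inv_inv]
    have h2 := hτ.comm (getG LE 266) (by simp)
    have h3 := hτ.comm (getG LE 206) (by simp)
    have h4 := hτ.comm (getG LE 26) (by simp)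
    rw [e_v7] at h2
    have h5 := T_a7a hcard h1 h2 h3
    simp only [List.map_cons, List.map_nil, List.mem_singleton] at h5
    rw [h5] at h4
    apply facts.ns ([17, 26], [26, 17]) (by simp [nsx])
    simp only [evG_cons, evG_nil, mul_one]
    exact h4
  obtain ⟨g, g1, g2, g3⟩ := facts.exo
  have hK := g3 S hgen
  have hy1 : g⁻¹ * y0 * g ∈ S := by rw [← e_y0]; exact hK 282 (by simp [gE])
  have hn : g⁻¹ ∈ Subgroup.normalizer (S : Set 𝒢) := by
    refine h.norm ?_ ?_ ?_ ?_ <;> rw [inv_inv]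
    · rcases hy with rfl | rfl
      · exact hy1
      · have h1 := S.inv_mem hy1
        have h2 : (g⁻¹ * y0 * g)⁻¹ = g⁻¹ * y0⁻¹ * g := by group
        rwa [h2] at h1
    · exact hK 266 (by simp [gE])
    · exact hK 206 (by simp [gE])
    · exact hK 26 (by simp [gE])
  have hgS : g⁻¹ ∉ S := by
    intro h1
    have h2 : g ∈ S := inv_mem_iff.1 h1
    exact g2 (hfix facts.wE_fix g h2)
  have hM := h.fixed_of_exo hno hn hgS (hfix facts.uE_fix) (ra_inv g1)
  refine false_of_mem h.nl.coatom uE_ne hM facts.mvE.1 (not_mem_of_move h.nl (hfix facts.wF_fix) (hgen _ ?_) facts.mvE.2)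
  simp [gE]

theorem false_18 (hcard : Nat.card {t // TY t} ≤ 10296)
    (h : Cfg M S y0 (getG LE 266) (getG LE 206) (getG LE 18)) : False := by
  have h5 := h.conj (getG LE 17)
  have e6 := facts.es ([17, 18], [26, 17]) (by simp [esx])
  simp only [evG_cons, evG_nil, mul_one] at e6
  rw [conj_eq (tauB.comm (getG LE 266) (by simp)), conj_eq (tauB.comm (getG LE 206) (by simp)), conj_eq e6, tauB.inv] at h5
  exact false_26 hcard (Or.inr rfl) h5

theorem false_of_cfg (hcard : Nat.card {t // TY t} ≤ 10296) {v a b : 𝒢} (h : Cfg M S y0 v a b)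
    (hva : (v = v3 ∧ a = a3) ∨ (v = v4 ∧ a = a4) ∨ (v = v5 ∧ a = a5) ∨ (v = v6 ∧ a = a6) ∨ (v = v7 ∧ a = a7a) ∨
      (v = v7 ∧ a = a7b) ∨ (v = v8 ∧ a = a8) ∨ (v = v9 ∧ a = a9a) ∨ (v = v9 ∧ a = a9b) ∨ (v = v9 ∧ a = a9c)) :
    False := by
  have hb : TY b := ⟨h.t6.bsq, h.t6.binv⟩
  have hbv := h.t6.bv
  have hab := h.t6.bbr
  have hc1 : ∀ x ∈ [(2 : ℕ), 255], getG LE x * y0 = y0 * getG LE x ∧ getG LE x * getG LE 268 = getG LE 268 * getG LE x ∧
      getG LE x * getG LE 221 = getG LE 221 * getG LE x := by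
    have e1 := facts.es ([255, 282], [282, 255]) (by simp [esx])
    have e2 := facts.es ([255, 268], [268, 255]) (by simp [esx])
    have e3 := facts.es ([255, 221], [221, 255]) (by simp [esx])
    have e4 := facts.es ([2, 282], [282, 2]) (by simp [esx])
    have e5 := facts.es ([2, 268], [268, 2]) (by simp [esx])
    have e6 := facts.es ([2, 221], [221, 2]) (by simp [esx])
    simp only [evG_cons, evG_nil, mul_one, e_y0] at e1 e2 e3 e4 e5 e6
    intro x hx
    simp only [List.mem_cons, List.not_mem_nil, or_false] at hx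
    rcases hx with rfl | rfl
    exacts [⟨e4, e5, e6⟩, ⟨e1, e2, e3⟩]
  rcases hva with ⟨rfl, rfl⟩ | ⟨rfl, rfl⟩ | ⟨rfl, rfl⟩ | ⟨rfl, rfl⟩ | ⟨rfl, rfl⟩ | ⟨rfl, rfl⟩ | ⟨rfl, rfl⟩ |
    ⟨rfl, rfl⟩ | ⟨rfl, rfl⟩ | ⟨rfl, rfl⟩
  · obtain ⟨p, hp, rfl⟩ := List.mem_map.1 (B_a3 hcard hb hbv hab)
    have hpc : ∀ p ∈ [221, 171, 163, 154, 150, 138], ∃ x ∈ [2, 3], (270, 235, p, x) ∈ cen := by decide
    obtain ⟨x, _, hx⟩ := hpc p hp
    exact false_cen hx h e_v3.symm rfl rfl
  · obtain ⟨p, hp, rfl⟩ := List.mem_map.1 (B_a4 hcard hb hbv hab)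
    have hpc : ∀ p ∈ [132, 119], ∃ x ∈ [2, 3], (269, 228, p, x) ∈ cen := by decide
    obtain ⟨x, _, hx⟩ := hpc p hp
    exact false_cen hx h e_v4.symm rfl rfl
  · obtain ⟨p, hp, rfl⟩ := List.mem_map.1 (B_a5 hcard hb hbv hab)
    simp only [List.mem_cons, List.not_mem_nil, or_false] at hp
    have h' := h
    rw [← e_v5] at h'
    obtain ⟨x1, x2, x3⟩ := hc1 2 (by simp)
    obtain ⟨z1, z2, z3⟩ := hc1 255 (by simp)
    have e7 := facts.es ([255, 108], [117, 255]) (by simp [esx])
    have e8 := facts.es ([255, 2, 94], [117, 255, 2]) (by simp [esx])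
    have e9 := facts.es ([2, 86], [117, 2]) (by simp [esx])
    simp only [evG_cons, evG_nil, mul_one] at e7 e8 e9
    rcases hp with rfl | rfl | rfl | rfl | rfl | rfl | rfl
    · exact false_117 h'
    · exact false_117' z1 z2 z3 e7 h'
    · exact false_cen (p := (268, 221, 101, 2)) (by decide) h e_v5.symm rfl rfl
    · refine false_117' (d := getG LE 255 * getG LE 2) ?_ ?_ ?_ ?_ h'
      · rw [mul_assoc, x1, ← mul_assoc, z1, mul_assoc]
      · rw [mul_assoc, x2, ← mul_assoc, z2, mul_assoc]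
      · rw [mul_assoc, x3, ← mul_assoc, z3, mul_assoc]
      · rw [mul_assoc]; exact e8
    · exact false_117' x1 x2 x3 e9 h'
    · exact false_cen (p := (268, 221, 78, 2)) (by decide) h e_v5.symm rfl rfl
    · exact false_cen (p := (268, 221, 66, 2)) (by decide) h e_v5.symm rfl rfl
  · obtain ⟨p, hp, rfl⟩ := List.mem_map.1 (B_a6 hcard hb hbv hab)
    have hpc : ∀ p ∈ [54], ∃ x ∈ [2, 3], (267, 209, p, x) ∈ cen := by decide
    obtain ⟨x, _, hx⟩ := hpc p hp
    exact false_cen hx h e_v6.symm rfl rfl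
  · obtain ⟨p, hp, rfl⟩ := List.mem_map.1 (B_a7a hcard hb hbv hab)
    simp only [List.mem_cons, List.not_mem_nil, or_false] at hp
    rw [← e_v7] at h
    rcases hp with rfl | rfl | rfl
    · exact false_31 h
    · exact false_26 hcard (Or.inl rfl) h
    · exact false_18 hcard h
  · have h1 := B_a7b hcard hb hbv hab
    simp at h1
  · have h1 := B_a8 hcard hb hbv hab
    simp at h1
  · have h1 := B_a9a hcard hb hbv hab
    simp at h1
  · have h1 := B_a9b hcard hb hbv hab
    simp at h1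
  · have h1 := B_a9c hcard hb hbv hab
    simp at h1

theorem excl_A6 (hcard : Nat.card {t // TY t} ≤ 10296) (hfive : Five) : Excl (alternatingGroup (Fin 6)) := by
  intro M S h e
  obtain ⟨y, v, a, b, hC⟩ := exists_cfg h e
  obtain ⟨g, hy, hva⟩ := hfive y v a hC.t6.toT5
  have hC' := hC.conj g
  rw [hy] at hC'
  exact false_of_cfg hcard hC' hva

end Cfsg.Agent.H856.JM.A6
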