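import Cfsg.Agent.S3335
import Cfsg.Agent.S2119
import Cfsg.Agent.StdAlt.Six.Act
import Cfsg.Agent.StdAlt.Six.Theta

/-!
# Generators of the alternating groups of degree 5, 6, 7, 8, and the orders of their
# automorphism groups
-/

set_option autoImplicit false

namespace Cfsg.Agent.H856.JM

open Subgroup

variable {G : Type*} [Group G]

/-! ### Moore's generators -/

/-- `y = (0 1 2)`, `v = (0 1)(2 3)` -/
structure T4 (y v : G) : Prop where
  y_ne : y ≠ 1
  cube : y * y * y = 1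
  v_ne : v ≠ 1
  sq : v * v = 1
  br : (v * y) ^ 3 = 1

/-- in addition `a = (0 1)(3 4)` -/
structure T5 (y v a : G) : Prop extends T4 y v where
  a_ne : a ≠ 1
  asq : a * a = 1
  ainv : a * y * a⁻¹ = y⁻¹
  abr : (v * a) ^ 3 = 1

/-- in addition `b = (0 1)(4 5)` -/
structure T6 (y v a b : G) : Prop extends T5 y v a where
  b_ne : b ≠ 1
  bsq : b * b = 1
  binv : b * y * b⁻¹ = y⁻¹
  bv : b * v = v * b
  bbr : (a * b) ^ 3 = 1

/-- in addition `c = (0 1)(5 6)` -/
structure T7 (y v a b c : G) : Prop extends T6 y v a b where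
  c_ne : c ≠ 1
  csq : c * c = 1
  cinv : c * y * c⁻¹ = y⁻¹
  cv : c * v = v * c
  ca : c * a = a * c
  cbr : (b * c) ^ 3 = 1

/-- in addition `d = (0 1)(6 7)` -/
structure T8 (y v a b c d : G) : Prop extends T7 y v a b c where
  d_ne : d ≠ 1
  dsq : d * d = 1
  dinv : d * y * d⁻¹ = y⁻¹
  dv : d * v = v * d
  da : d * a = a * d
  db : d * b = b * d
  dbr : (c * d) ^ 3 = 1

/-- the generators in the alternating group -/
def mg (k : ℕ) (i : Fin (k + 1)) : alternatingGroup (Fin (k + 3)) := ⟨S3335.mo k i, S3335.mo_mem k i⟩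

theorem closure_mg (k : ℕ) : closure (Set.range (mg k)) = ⊤ := by
  have h1 := S3335.closure_mo k
  have h2 : (closure (Set.range (mg k))).map (alternatingGroup (Fin (k + 3))).subtype =
      alternatingGroup (Fin (k + 3)) := by
    rw [MonoidHom.map_closure, ← Set.range_comp]
    exact h1
  apply Subgroup.map_injective (alternatingGroup (Fin (k + 3))).subtype_injective
  rw [h2, ← MonoidHom.range_eq_map, Subgroup.range_subtype]

theorem mg_zero (k : ℕ) : mg k 0 ^ 3 = 1 := Subtype.ext (S3335.mo_zero k)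

theorem mg_sq {k : ℕ} {i : Fin (k + 1)} (h : 1 ≤ i.val) : mg k i ^ 2 = 1 := Subtype.ext (S3335.mo_sq h)

theorem mg_br {k : ℕ} {i j : Fin (k + 1)} (h : j.val = i.val + 1) : (mg k i * mg k j) ^ 3 = 1 :=
  Subtype.ext (S3335.mo_br h)

theorem mg_cm {k : ℕ} {i j : Fin (k + 1)} (h : i.val + 1 < j.val) : (mg k i * mg k j) ^ 2 = 1 :=
  Subtype.ext (S3335.mo_cm h)

theorem mg_ne (k : ℕ) (i : Fin (k + 1)) : mg k i ≠ 1 := by
  intro h
  have h1 : S3335.tr k 0 * S3335.tr k i.succ = 1 := congrArg Subtype.val h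
  have h2 : S3335.tr k i.succ = S3335.tr k 0 := by
    have h3 := S3335.tr_mul k 0
    exact mul_left_cancel (h1.trans h3.symm)
  have h3 : S3335.tr k 0 0 = 1 := Equiv.swap_apply_left _ _
  rw [← h2] at h3
  have h4 : S3335.tr k i.succ 0 = 0 := by
    refine Equiv.swap_apply_of_ne_of_ne ?_ ?_
    · intro h5
      have := congrArg Fin.val h5
      simp at this
    · intro h5
      have := congrArg Fin.val h5
      simp at this
  rw [h4] at h3
  exact absurd (congrArg Fin.val h3) (by simp)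

section transfer

variable {k : ℕ} (f : alternatingGroup (Fin (k + 3)) →* G)

theorem tr_ne (hf : Function.Injective f) (i : Fin (k + 1)) : f (mg k i) ≠ 1 := fun h =>
  mg_ne k i (hf (by rw [h, map_one]))

theorem tr_cube : f (mg k 0) * f (mg k 0) * f (mg k 0) = 1 := by
  rw [← map_mul, ← map_mul, ← pow_two, ← pow_succ, mg_zero, map_one]

theorem tr_sq (i : Fin (k + 1)) (h : 1 ≤ i.val) : f (mg k i) * f (mg k i) = 1 := by
  rw [← map_mul, ← pow_two, mg_sq h, map_one]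

theorem tr_br (i j : Fin (k + 1)) (h : j.val = i.val + 1) : (f (mg k i) * f (mg k j)) ^ 3 = 1 := by
  rw [← map_mul, ← map_pow, mg_br h, map_one]

theorem tr_br' (i j : Fin (k + 1)) (h : j.val = i.val + 1) : (f (mg k j) * f (mg k i)) ^ 3 = 1 := by
  have h1 : f (mg k j) * f (mg k i) =
      f (mg k j) * (f (mg k i) * f (mg k j)) * (f (mg k j))⁻¹ := by group
  rw [h1, conj_pow, tr_br f i j h, mul_one, mul_inv_cancel]

theorem tr_comm (i j : Fin (k + 1)) (hi : 1 ≤ i.val) (h : i.val + 1 < j.val) :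
    f (mg k j) * f (mg k i) = f (mg k i) * f (mg k j) := by
  have h1 : f (mg k i) * f (mg k j) * (f (mg k i) * f (mg k j)) = 1 := by
    rw [← map_mul, ← map_mul, ← pow_two, mg_cm h, map_one]
  have h2 : (f (mg k i))⁻¹ = f (mg k i) := inv_eq_of_mul_eq_one_left (tr_sq f i hi)
  have h3 : (f (mg k j))⁻¹ = f (mg k j) := inv_eq_of_mul_eq_one_left (tr_sq f j (by omega))
  have h4 := inv_eq_of_mul_eq_one_left h1
  rw [mul_inv_rev, h2, h3] at h4
  exact h4

theorem tr_inv (j : Fin (k + 1)) (h : 1 < j.val) :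
    f (mg k j) * f (mg k 0) * (f (mg k j))⁻¹ = (f (mg k 0))⁻¹ := by
  have h1 : f (mg k 0) * f (mg k j) * (f (mg k 0) * f (mg k j)) = 1 := by
    rw [← map_mul, ← map_mul, ← pow_two, mg_cm (i := 0) (j := j) (by simpa using h), map_one]
  have h3 : (f (mg k j))⁻¹ = f (mg k j) := inv_eq_of_mul_eq_one_left (tr_sq f j (by omega))
  rw [h3, eq_inv_iff_mul_eq_one]
  have h2 : f (mg k j) * f (mg k 0) * f (mg k j) * f (mg k 0) =
      (f (mg k 0))⁻¹ * (f (mg k 0) * f (mg k j) * (f (mg k 0) * f (mg k j))) * f (mg k 0) := by group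
  rw [h2, h1, mul_one, inv_mul_cancel]

end transfer

/-- the transferred generators -/
theorem exists_hom {S : Subgroup G} {k : ℕ} (h : Nonempty (S ≃* alternatingGroup (Fin (k + 3)))) :
    ∃ f : alternatingGroup (Fin (k + 3)) →* G, Function.Injective f ∧
      S = closure (Set.range fun i => f (mg k i)) := by
  obtain ⟨e⟩ := h
  refine ⟨S.subtype.comp e.symm.toMonoidHom, ?_, ?_⟩
  · exact S.subtype_injective.comp e.symm.injective
  · have h1 : (Set.range fun i => (S.subtype.comp e.symm.toMonoidHom) (mg k i)) =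
        (S.subtype.comp e.symm.toMonoidHom) '' Set.range (mg k) := by
      rw [← Set.range_comp]; rfl
    rw [h1, ← MonoidHom.map_closure, closure_mg, ← MonoidHom.range_eq_map]
    ext x
    constructor
    · intro hx
      exact ⟨e ⟨x, hx⟩, by simp⟩
    · rintro ⟨z, rfl⟩
      exact (e.symm z).2

theorem gens5 {S : Subgroup G} (h : Nonempty (S ≃* alternatingGroup (Fin 5))) :
    ∃ y v a, T5 y v a ∧ S = Subgroup.closure {y, v, a} := by
  obtain ⟨f, hf, hS⟩ := exists_hom (k := 2) h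
  refine ⟨f (mg 2 0), f (mg 2 1), f (mg 2 2), ⟨⟨tr_ne f hf _, tr_cube f, tr_ne f hf _, tr_sq f 1 (by decide),
    tr_br' f 0 1 (by decide)⟩, tr_ne f hf _, tr_sq f 2 (by decide), tr_inv f 2 (by decide),
    tr_br f 1 2 (by decide)⟩, ?_⟩
  rw [hS]
  congr 1
  ext x
  simp only [Set.mem_range, Set.mem_insert_iff, Set.mem_singleton_iff]
  constructor
  · rintro ⟨i, rfl⟩
    fin_cases i <;> simp
  · rintro (rfl | rfl | rfl)
    exacts [⟨0, rfl⟩, ⟨1, rfl⟩, ⟨2, rfl⟩]

theorem gens6 {S : Subgroup G} (h : Nonempty (S ≃* alternatingGroup (Fin 6))) :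
    ∃ y v a b, T6 y v a b ∧ S = Subgroup.closure {y, v, a, b} := by
  obtain ⟨f, hf, hS⟩ := exists_hom (k := 3) h
  refine ⟨f (mg 3 0), f (mg 3 1), f (mg 3 2), f (mg 3 3), ⟨⟨⟨tr_ne f hf _, tr_cube f, tr_ne f hf _,
    tr_sq f 1 (by decide), tr_br' f 0 1 (by decide)⟩, tr_ne f hf _, tr_sq f 2 (by decide),
    tr_inv f 2 (by decide), tr_br f 1 2 (by decide)⟩, tr_ne f hf _, tr_sq f 3 (by decide),
    tr_inv f 3 (by decide), tr_comm f 1 3 (by decide) (by decide), tr_br f 2 3 (by decide)⟩, ?_⟩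
  rw [hS]
  congr 1
  ext x
  simp only [Set.mem_range, Set.mem_insert_iff, Set.mem_singleton_iff]
  constructor
  · rintro ⟨i, rfl⟩
    fin_cases i <;> simp
  · rintro (rfl | rfl | rfl | rfl)
    exacts [⟨0, rfl⟩, ⟨1, rfl⟩, ⟨2, rfl⟩, ⟨3, rfl⟩]

theorem gens7 {S : Subgroup G} (h : Nonempty (S ≃* alternatingGroup (Fin 7))) :
    ∃ y v a b c, T7 y v a b c ∧ S = Subgroup.closure {y, v, a, b, c} := by
  obtain ⟨f, hf, hS⟩ := exists_hom (k := 4) h
  refine ⟨f (mg 4 0), f (mg 4 1), f (mg 4 2), f (mg 4 3), f (mg 4 4), ⟨⟨⟨⟨tr_ne f hf _, tr_cube f,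
    tr_ne f hf _, tr_sq f 1 (by decide), tr_br' f 0 1 (by decide)⟩, tr_ne f hf _,
    tr_sq f 2 (by decide), tr_inv f 2 (by decide), tr_br f 1 2 (by decide)⟩, tr_ne f hf _,
    tr_sq f 3 (by decide), tr_inv f 3 (by decide), tr_comm f 1 3 (by decide) (by decide),
    tr_br f 2 3 (by decide)⟩, tr_ne f hf _, tr_sq f 4 (by decide), tr_inv f 4 (by decide),
    tr_comm f 1 4 (by decide) (by decide), tr_comm f 2 4 (by decide) (by decide),
    tr_br f 3 4 (by decide)⟩, ?_⟩
  rw [hS]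
  congr 1
  ext x
  simp only [Set.mem_range, Set.mem_insert_iff, Set.mem_singleton_iff]
  constructor
  · rintro ⟨i, rfl⟩
    fin_cases i <;> simp
  · rintro (rfl | rfl | rfl | rfl | rfl)
    exacts [⟨0, rfl⟩, ⟨1, rfl⟩, ⟨2, rfl⟩, ⟨3, rfl⟩, ⟨4, rfl⟩]

theorem gens8 {S : Subgroup G} (h : Nonempty (S ≃* alternatingGroup (Fin 8))) :
    ∃ y v a b c d, T8 y v a b c d ∧ S = Subgroup.closure {y, v, a, b, c, d} := by
  obtain ⟨f, hf, hS⟩ := exists_hom (k := 5) h
  refine ⟨f (mg 5 0), f (mg 5 1), f (mg 5 2), f (mg 5 3), f (mg 5 4), f (mg 5 5),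
    ⟨⟨⟨⟨⟨tr_ne f hf _, tr_cube f,
    tr_ne f hf _, tr_sq f 1 (by decide), tr_br' f 0 1 (by decide)⟩, tr_ne f hf _,
    tr_sq f 2 (by decide), tr_inv f 2 (by decide), tr_br f 1 2 (by decide)⟩, tr_ne f hf _,
    tr_sq f 3 (by decide), tr_inv f 3 (by decide), tr_comm f 1 3 (by decide) (by decide),
    tr_br f 2 3 (by decide)⟩, tr_ne f hf _, tr_sq f 4 (by decide), tr_inv f 4 (by decide),
    tr_comm f 1 4 (by decide) (by decide), tr_comm f 2 4 (by decide) (by decide),
    tr_br f 3 4 (by decide)⟩, tr_ne f hf _, tr_sq f 5 (by decide), tr_inv f 5 (by decide),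
    tr_comm f 1 5 (by decide) (by decide), tr_comm f 2 5 (by decide) (by decide),
    tr_comm f 3 5 (by decide) (by decide), tr_br f 4 5 (by decide)⟩, ?_⟩
  rw [hS]
  congr 1
  ext x
  simp only [Set.mem_range, Set.mem_insert_iff, Set.mem_singleton_iff]
  constructor
  · rintro ⟨i, rfl⟩
    fin_cases i <;> simp
  · rintro (rfl | rfl | rfl | rfl | rfl | rfl)
    exacts [⟨0, rfl⟩, ⟨1, rfl⟩, ⟨2, rfl⟩, ⟨3, rfl⟩, ⟨4, rfl⟩, ⟨5, rfl⟩]

/-! ### Orders -/

theorem card_alt {n : ℕ} (hn : 2 ≤ n) : 2 * Nat.card (alternatingGroup (Fin n)) = n.factorial := by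
  have : Nontrivial (Fin n) := Fin.nontrivial_iff_two_le.2 hn
  have := two_mul_nat_card_alternatingGroup (α := Fin n)
  rwa [Nat.card_perm, Nat.card_fin] at this

theorem card_aut {n : ℕ} (hn : 4 ≤ n) (h6 : n ≠ 6) :
    Nat.card (MulAut (alternatingGroup (Fin n))) = n.factorial := by
  rw [← Nat.card_congr (Equiv.ofBijective _ (S2119.result n hn h6)), Nat.card_perm,
    Nat.card_eq_fintype_card, Fintype.card_fin]

theorem card_aut_six : Nat.card (MulAut (alternatingGroup (Fin 6))) = 1440 := by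
  classical
  obtain ⟨θ, hθ⟩ := StdAlt.Six.exists_theta
  have hmem : ∀ α : MulAut StdAlt.Six.A6, α ∈ StdAlt.Six.pc.range ↔ StdAlt.Six.NS α := by
    intro α
    rw [StdAlt.Six.ns_iff]
    constructor
    · rintro ⟨σ, h⟩; exact ⟨σ, h.symm⟩
    · rintro ⟨σ, h⟩; exact ⟨σ, h.symm⟩
  have h1 : StdAlt.Six.pc.range.index = 2 := by
    rw [Subgroup.index_eq_two_iff]
    refine ⟨θ, fun b => ?_⟩
    rw [hmem, hmem]
    by_cases hb : StdAlt.Six.NS b
    · exact Or.inr ⟨hb, StdAlt.Six.not_ns_mul_left hb hθ⟩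
    · exact Or.inl ⟨StdAlt.Six.NS.mul_of_not hb hθ, hb⟩
  have h2 : Nat.card StdAlt.Six.pc.range = 720 := by
    have h3 : Function.Injective StdAlt.Six.pc := fun _ _ h => StdAlt.Six.pc_inj h
    rw [← Nat.card_congr (MonoidHom.ofInjective (f := StdAlt.Six.pc) h3).toEquiv, Nat.card_perm,
      Nat.card_eq_fintype_card, Fintype.card_fin]
    rfl
  have h3 := Subgroup.card_mul_index StdAlt.Six.pc.range
  rw [h1, h2] at h3
  exact h3.symm

end Cfsg.Agent.H856.JM
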