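import Cfsg.Agent.H856.JM.A5
import Cfsg.Agent.H856.JM.A6
import Cfsg.Agent.H820.JM.TyCard
import Cfsg.Agent.H878.JM.Five

/-!
# S5580, Part III: no maximal subgroup of `J4` has socle `A_5`, `A_6`, `A_7` or `A_8`, given the classes of the `A_4` (`E2`)
-/

set_option autoImplicit false

open Cfsg

namespace Cfsg.Agent.H856.JM.AltRows

open Cfsg.Agent.H860.JM (Excl)
open Cfsg.Agent.H878.JM.Five (E2)

theorem five (hE : E2) : A78.Five := fun _ _ _ h =>
  Cfsg.Agent.H878.JM.Five.five Cfsg.Agent.H820.JM.card_TY hE h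

theorem excl_A5 (hE : E2) : Excl (alternatingGroup (Fin 5)) :=
  A5.excl_A5 Cfsg.Agent.H820.JM.card_TY (five hE)

theorem excl_A6 (hE : E2) : Excl (alternatingGroup (Fin 6)) :=
  A6.excl_A6 Cfsg.Agent.H820.JM.card_TY (five hE)

theorem excl_A7 (hE : E2) : Excl (alternatingGroup (Fin 7)) :=
  A78.excl_A7 Cfsg.Agent.H820.JM.card_TY (five hE)

theorem excl_A8 (hE : E2) : Excl (alternatingGroup (Fin 8)) :=
  A78.excl_A8 Cfsg.Agent.H820.JM.card_TY (five hE)

end Cfsg.Agent.H856.JM.AltRows
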