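import Cfsg.Agent.H856.JM.A78

/-!
# S5580, Part III: no maximal subgroup of `J4` has socle `A_5` (helper856)
-/

set_option autoImplicit false
set_option maxRecDepth 100000

open Cfsg

namespace Cfsg.Agent.H856.JM.A5

open Cfsg.Agent.Lib Cfsg.Agent.Lib.F2Mat Cfsg.Agent.Lib.F2MatGroup
open Cfsg.Agent.J4.Rep112
open Cfsg.Agent.H858.VK
open Cfsg.Agent.H878.JM.Base Cfsg.Agent.H878.JM.Elts
open Cfsg.Agent.H111.JM.Eng Cfsg.Agent.H111.JM.Env Cfsg.Agent.H111.JM.TList
open Cfsg.Agent.H856.JM.Small Cfsg.Agent.H856.JM.A78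
open Cfsg.Agent.H860.JM (NL Excl cj)

/-- the group `Spor.J4` -/
local notation "𝒢" => Cfsg.Spor.J4

/-- the row vector fixed by the group `A_5` of class 7 (first type) -/
def q7 : ℕ := 1927042731792913007381910090024751

/-- the row vector fixed by the group `A_5` of class 9 (first type) -/
def q9 : ℕ := 221394909968541853386383800774348

/-- the positions of `v`, `a` and of an element commuting with `y0`, `v`, `a` -/
def cen : List (ℕ × ℕ × ℕ) := [(270, 235, 3), (269, 228, 3), (268, 221, 2), (267, 209, 2), (266, 204, 1),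
  (265, 193, 1), (264, 179, 0), (264, 193, 0)]

/-- the words of the elements of order 11 and 7 -/
def sx : List (List ℕ) := [[87, 266], [18, 254, 18, 254]]

/-- all checks -/
def chks (L : List ℕ) : Bool :=
  cond (fx q7 L [282, 266, 206, 17]) (cond (fx q9 L [282, 264, 184, 4])
    (cond (cen.all fun p => cond (eqs 112 [([p.2.2, 282], [282, p.2.2]), ([p.2.2, p.1], [p.1, p.2.2]),
        ([p.2.2, p.2.1], [p.2.1, p.2.2])] L) (neqs 112 [([p.2.2], [])] L) false)
      (run 112 sx L fun L3 => cond (fx q7 L3 [1]) (cond (fx q9 L3 [0])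
          (cond (eqs 112 [(List.replicate 11 1, []), (List.replicate 7 0, [])] L3)
            (neqs 112 [([1], []), ([0], [])] L3) false) false) false) false) false) false

theorem chk : run 112 (slpJ ++ slpE) codes chks = true := by decide +kernel

/-- the facts -/
structure Facts : Prop where
  q7_gen : ∀ k ∈ [282, 266, 206, 17], ra (toVec 112 q7) (getG LE k) = toVec 112 q7
  q9_gen : ∀ k ∈ [282, 264, 184, 4], ra (toVec 112 q9) (getG LE k) = toVec 112 q9
  cent : ∀ p ∈ cen, getG LE p.2.2 ≠ 1 ∧ getG LE p.2.2 * y0 = y0 * getG LE p.2.2 ∧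
    getG LE p.2.2 * getG LE p.1 = getG LE p.1 * getG LE p.2.2 ∧
    getG LE p.2.2 * getG LE p.2.1 = getG LE p.2.1 * getG LE p.2.2
  q7_el : ∃ k, ra (toVec 112 q7) k = toVec 112 q7 ∧ orderOf k = 11
  q9_el : ∃ k, ra (toVec 112 q9) k = toVec 112 q9 ∧ orderOf k = 7

theorem facts : Facts := by
  obtain ⟨L2, h2, h⟩ := Cfsg.Agent.H878.JM.Elts.run_env chk
  unfold chks at h
  obtain ⟨a1, h⟩ := CommTest.cond_true h
  obtain ⟨a2, h⟩ := CommTest.cond_true h
  obtain ⟨a3, h⟩ := CommTest.cond_true h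
  obtain ⟨L3, h3, h⟩ := run_sound h2 h
  rw [runG_map] at h3
  obtain ⟨a5, h⟩ := CommTest.cond_true h
  obtain ⟨a6, h⟩ := CommTest.cond_true h
  obtain ⟨a7, a8⟩ := CommTest.cond_true h
  have e1 : ∀ q ∈ [(List.replicate 11 1, ([] : List ℕ)), (List.replicate 7 0, [])],
      evG (runG sx LE) q.1 = evG (runG sx LE) q.2 := by
    intro q hq
    apply rho_injective
    rw [← evG_map, ← evG_map]
    exact eqs_sound h3 a7 q hq
  have e2 : ∀ q ∈ [([1], ([] : List ℕ)), ([0], [])], evG (runG sx LE) q.1 ≠ evG (runG sx LE) q.2 := by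
    intro q hq h0
    have h1 := congrArg rho h0
    rw [← evG_map, ← evG_map] at h1
    exact neqs_sound (by norm_num) h3 a8 q hq h1
  have hrep : ∀ (L : List 𝒢) (n k : ℕ), evG L (List.replicate n k) = getG L k ^ n := by
    intro L n k
    induction n with
    | zero => rw [List.replicate_zero, evG_nil, pow_zero]
    | succ n ih => rw [List.replicate_succ, evG_cons, ih, pow_succ']
  have f7 : Fact (Nat.Prime 7) := ⟨by norm_num⟩
  have f11 : Fact (Nat.Prime 11) := ⟨by norm_num⟩
  refine ⟨fun k hk => fx_sound h2 a1 hk, fun k hk => fx_sound h2 a2 hk, ?_,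
    ⟨getG (runG sx LE) 1, fx_sound h3 a5 (by simp), orderOf_eq_prime ?_ ?_⟩,
    ⟨getG (runG sx LE) 0, fx_sound h3 a6 (by simp), orderOf_eq_prime ?_ ?_⟩⟩
  · intro p hp
    rw [List.all_eq_true] at a3
    obtain ⟨b1, b2⟩ := CommTest.cond_true (a3 p hp)
    have e3 : ∀ q ∈ [([p.2.2, 282], [282, p.2.2]), ([p.2.2, p.1], [p.1, p.2.2]),
        ([p.2.2, p.2.1], [p.2.1, p.2.2])], evG LE q.1 = evG LE q.2 := by
      intro q hq
      apply rho_injective
      rw [← evG_map, ← evG_map]
      exact eqs_sound h2 b1 q hq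
    have c1 := e3 ([p.2.2, 282], [282, p.2.2]) (by simp)
    have c2 := e3 ([p.2.2, p.1], [p.1, p.2.2]) (by simp)
    have c3 := e3 ([p.2.2, p.2.1], [p.2.1, p.2.2]) (by simp)
    simp only [evG_cons, evG_nil, mul_one, e_y0] at c1 c2 c3
    refine ⟨fun h0 => ?_, c1, c2, c3⟩
    have h1 : evG LE [p.2.2] = evG LE [] := by rw [evG_cons, evG_nil, mul_one, h0]
    have h5 := congrArg rho h1
    rw [← evG_map, ← evG_map] at h5
    exact neqs_sound (by norm_num) h2 b2 ([p.2.2], []) (by simp) h5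
  · have h4 := e1 (List.replicate 11 1, []) (by simp)
    rwa [hrep, evG_nil] at h4
  · intro h4
    apply e2 ([1], []) (by simp)
    rw [evG_cons, evG_nil, mul_one, h4]
  · have h4 := e1 (List.replicate 7 0, []) (by simp)
    rwa [hrep, evG_nil] at h4
  · intro h4
    apply e2 ([0], []) (by simp)
    rw [evG_cons, evG_nil, mul_one, h4]

theorem q7_ne : toVec 112 q7 ≠ 0 := by
  intro h
  have h1 := congrFun h 0
  rw [toVec_apply] at h1
  revert h1
  decide +kernel

theorem q9_ne : toVec 112 q9 ≠ 0 := by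
  intro h
  have h1 := congrFun h 2
  rw [toVec_apply] at h1
  revert h1
  decide +kernel

variable {M S : Subgroup 𝒢}

/-- exclusion by an element of the centralizer -/
theorem false_of_cent (h : NL M S) {X : Set 𝒢} (hS : S = Subgroup.closure X) {g x : 𝒢} (hx : x ≠ 1)
    (hc : ∀ z ∈ X, x * (g * z * g⁻¹) = g * z * g⁻¹ * x) : False := by
  have h1 : S ≤ Subgroup.centralizer {g⁻¹ * x * g} := by
    rw [hS, Subgroup.closure_le]
    intro z hz
    show z ∈ Subgroup.centralizer {g⁻¹ * x * g}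
    rw [Subgroup.mem_centralizer_singleton_iff]
    have h2 := hc z hz
    exact (calc g⁻¹ * x * g * z = g⁻¹ * (x * (g * z * g⁻¹)) * g := by group
      _ = z * (g⁻¹ * x * g) := by rw [h2]; group).symm
  have h2 : g⁻¹ * x * g = 1 := by
    apply cent_eq_one h
    intro z hz
    have h3 := Subgroup.mem_centralizer_singleton_iff.1 (h1 hz)
    exact h3.symm
  apply hx
  calc x = g * (g⁻¹ * x * g) * g⁻¹ := by group
    _ = 1 := by rw [h2]; group

theorem excl_A5 (hcard : Nat.card {t // TY t} ≤ 10296) (hfive : Five) : Excl (alternatingGroup (Fin 5)) := by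
  intro M S h e
  have hdvd : Nat.card M ∣ 120 := card_dvd h (n := 5) (by norm_num) (by norm_num) e
  have h7 : ¬ 7 ∣ Nat.card M := fun h1 => by have := h1.trans hdvd; revert this; decide
  have h11 : ¬ 11 ∣ Nat.card M := fun h1 => by have := h1.trans hdvd; revert this; decide
  obtain ⟨y, v, a, hT, hS, hM⟩ := alt5 h e
  obtain ⟨g, hy, hva⟩ := hfive y v a hT
  have hcj : ∀ x : 𝒢, (MulAut.conj g).toMonoidHom x = g * x * g⁻¹ := fun x => rfl
  have hX : M ≤ Subgroup.closure {y, v, a} ∨ ∃ τ, Tau τ y [v, a] ∧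
      M ≤ Subgroup.closure (insert τ {y, v, a}) := by
    rcases hM with h1 | ⟨τ, h1, h2⟩
    · left; rw [h1, hS]
    · right
      refine ⟨τ, h1, ?_⟩
      rw [h2, hS]
      refine sup_le (Subgroup.closure_mono (Set.subset_insert _ _)) (Subgroup.closure_mono ?_)
      exact Set.singleton_subset_iff.2 (Set.mem_insert _ _)
  have hτ : ∀ τ, Tau τ y [v, a] → TY (g * τ * g⁻¹) ∧
      ∀ x ∈ [v, a], g * τ * g⁻¹ * (g * x * g⁻¹) = g * x * g⁻¹ * (g * τ * g⁻¹) := by
    intro τ h1
    have h2 := h1.map (MulAut.conj g).toMonoidHom (MulAut.conj g).injective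
    simp only [hcj] at h2
    rw [hy] at h2
    exact ⟨⟨h2.sq, h2.inv⟩, fun x hx => h2.comm _ (List.mem_map.2 ⟨x, hx, rfl⟩)⟩
  have hcen : ∀ p ∈ cen, g * v * g⁻¹ = getG LE p.1 → g * a * g⁻¹ = getG LE p.2.1 → False := by
    intro p hp h1 h2
    obtain ⟨c0, c1, c2, c3⟩ := facts.cent p hp
    refine false_of_cent h hS (g := g) c0 fun z hz => ?_
    simp only [Set.mem_insert_iff, Set.mem_singleton_iff] at hz
    rcases hz with rfl | rfl | rfl
    · rw [hy]; exact c1
    · rw [h1]; exact c2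
    · rw [h2]; exact c3
  rcases hva with ⟨h1, h2⟩ | ⟨h1, h2⟩ | ⟨h1, h2⟩ | ⟨h1, h2⟩ | ⟨h1, h2⟩ | ⟨h1, h2⟩ | ⟨h1, h2⟩ |
    ⟨h1, h2⟩ | ⟨h1, h2⟩ | ⟨h1, h2⟩
  · exact hcen (270, 235, 3) (by simp [cen]) (h1.trans e_v3.symm) h2
  · exact hcen (269, 228, 3) (by simp [cen]) (h1.trans e_v4.symm) h2
  · exact hcen (268, 221, 2) (by simp [cen]) (h1.trans e_v5.symm) h2
  · exact hcen (267, 209, 2) (by simp [cen]) (h1.trans e_v6.symm) h2
  · -- class 7, first type
    have hall : ∀ x ∈ ({y, v, a} : Set 𝒢), ra (toVec 112 q7) (g * x * g⁻¹) = toVec 112 q7 := by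
      intro x hx
      simp only [Set.mem_insert_iff, Set.mem_singleton_iff] at hx
      rcases hx with rfl | rfl | rfl
      · rw [hy, ← e_y0]; exact facts.q7_gen 282 (by simp)
      · rw [h1, ← e_v7]; exact facts.q7_gen 266 (by simp)
      · rw [h2]; exact facts.q7_gen 206 (by simp)
    obtain ⟨k, hk, ho⟩ := facts.q7_el
    rcases hX with h5 | ⟨τ, h6, h5⟩
    · exact false_of_gens h h5 q7_ne hall hk (by rw [ho]; exact h11)
    · refine false_of_gens h h5 (g := g) q7_ne (fun x hx => ?_) hk (by rw [ho]; exact h11)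
      rcases Set.mem_insert_iff.1 hx with rfl | hx
      · obtain ⟨h8, h9⟩ := hτ x h6
        have h10 := h9 v (by simp)
        rw [h1] at h10
        have h12 := h9 a (by simp)
        rw [h2] at h12
        have h13 := T_a7a hcard h8 h10 h12
        simp only [List.map_cons, List.map_nil, List.mem_singleton] at h13
        rw [h13]
        exact facts.q7_gen 17 (by simp)
      · exact hall x hx
  · exact hcen (266, 204, 1) (by simp [cen]) (h1.trans e_v7.symm) h2
  · exact hcen (265, 193, 1) (by simp [cen]) (h1.trans e_v8.symm) h2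
  · -- class 9, first type
    have hall : ∀ x ∈ ({y, v, a} : Set 𝒢), ra (toVec 112 q9) (g * x * g⁻¹) = toVec 112 q9 := by
      intro x hx
      simp only [Set.mem_insert_iff, Set.mem_singleton_iff] at hx
      rcases hx with rfl | rfl | rfl
      · rw [hy, ← e_y0]; exact facts.q9_gen 282 (by simp)
      · rw [h1, ← e_v9]; exact facts.q9_gen 264 (by simp)
      · rw [h2]; exact facts.q9_gen 184 (by simp)
    obtain ⟨k, hk, ho⟩ := facts.q9_el
    rcases hX with h5 | ⟨τ, h6, h5⟩
    · exact false_of_gens h h5 q9_ne hall hk (by rw [ho]; exact h7)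
    · refine false_of_gens h h5 (g := g) q9_ne (fun x hx => ?_) hk (by rw [ho]; exact h7)
      rcases Set.mem_insert_iff.1 hx with rfl | hx
      · obtain ⟨h8, h9⟩ := hτ x h6
        have h10 := h9 v (by simp)
        rw [h1] at h10
        have h12 := h9 a (by simp)
        rw [h2] at h12
        have h13 := T_a9a hcard h8 h10 h12
        simp only [List.map_cons, List.map_nil, List.mem_singleton] at h13
        rw [h13]
        exact facts.q9_gen 4 (by simp)
      · exact hall x hx
  · exact hcen (264, 179, 0) (by simp [cen]) (h1.trans e_v9.symm) h2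
  · exact hcen (264, 193, 0) (by simp [cen]) (h1.trans e_v9.symm) h2

end Cfsg.Agent.H856.JM.A5
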