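import Cfsg.Agent.H856.JM.An

/-!
# Transport of generators, and the exclusion by a fixed row vector (helper856)
-/

set_option autoImplicit false

open Cfsg

namespace Cfsg.Agent.H856.JM

open Cfsg.Agent.H860.JM

section map

variable {G H : Type*} [Group G] [Group H] {f : G →* H}

theorem T4.map (hf : Function.Injective f) {y v : G} (h : T4 y v) : T4 (f y) (f v) where
  y_ne := fun h1 => h.y_ne (hf (by rw [h1, map_one]))
  cube := by rw [← map_mul, ← map_mul, h.cube, map_one]
  v_ne := fun h1 => h.v_ne (hf (by rw [h1, map_one]))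
  sq := by rw [← map_mul, h.sq, map_one]
  br := by rw [← map_mul, ← map_pow, h.br, map_one]

theorem T5.map (hf : Function.Injective f) {y v a : G} (h : T5 y v a) : T5 (f y) (f v) (f a) where
  toT4 := h.toT4.map hf
  a_ne := fun h1 => h.a_ne (hf (by rw [h1, map_one]))
  asq := by rw [← map_mul, h.asq, map_one]
  ainv := by rw [← map_mul, ← map_inv, ← map_mul, h.ainv, map_inv]
  abr := by rw [← map_mul, ← map_pow, h.abr, map_one]

theorem T6.map (hf : Function.Injective f) {y v a b : G} (h : T6 y v a b) :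
    T6 (f y) (f v) (f a) (f b) where
  toT5 := h.toT5.map hf
  b_ne := fun h1 => h.b_ne (hf (by rw [h1, map_one]))
  bsq := by rw [← map_mul, h.bsq, map_one]
  binv := by rw [← map_mul, ← map_inv, ← map_mul, h.binv, map_inv]
  bv := by rw [← map_mul, h.bv, map_mul]
  bbr := by rw [← map_mul, ← map_pow, h.bbr, map_one]

theorem T7.map (hf : Function.Injective f) {y v a b c : G} (h : T7 y v a b c) :
    T7 (f y) (f v) (f a) (f b) (f c) where
  toT6 := h.toT6.map hf
  c_ne := fun h1 => h.c_ne (hf (by rw [h1, map_one]))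
  csq := by rw [← map_mul, h.csq, map_one]
  cinv := by rw [← map_mul, ← map_inv, ← map_mul, h.cinv, map_inv]
  cv := by rw [← map_mul, h.cv, map_mul]
  ca := by rw [← map_mul, h.ca, map_mul]
  cbr := by rw [← map_mul, ← map_pow, h.cbr, map_one]

theorem T8.map (hf : Function.Injective f) {y v a b c d : G} (h : T8 y v a b c d) :
    T8 (f y) (f v) (f a) (f b) (f c) (f d) where
  toT7 := h.toT7.map hf
  d_ne := fun h1 => h.d_ne (hf (by rw [h1, map_one]))
  dsq := by rw [← map_mul, h.dsq, map_one]
  dinv := by rw [← map_mul, ← map_inv, ← map_mul, h.dinv, map_inv]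
  dv := by rw [← map_mul, h.dv, map_mul]
  da := by rw [← map_mul, h.da, map_mul]
  db := by rw [← map_mul, h.db, map_mul]
  dbr := by rw [← map_mul, ← map_pow, h.dbr, map_one]

/-- commuting involutions with a product of order dividing 3 are equal -/
theorem eq_of_comm {p q : G} (hp : p * p = 1) (hq : q * q = 1) (hc : p * q = q * p)
    (h3 : (p * q) ^ 3 = 1) : p = q := by
  have h2 : p * q * (p * q) = 1 := by
    calc p * q * (p * q) = p * (q * p) * q := by group
      _ = p * (p * q) * q := by rw [hc]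
      _ = p * p * (q * q) := by group
      _ = 1 := by rw [hp, hq, one_mul]
  have h1 : p * q = 1 := by
    rw [pow_succ, pow_two, h2, one_mul] at h3
    exact h3
  rw [mul_eq_one_iff_eq_inv] at h1
  rw [h1]
  exact inv_eq_of_mul_eq_one_left hq

/-- in `A_7` the generators `(0 1)(4 5)` and `(0 1)(5 6)` do not commute -/
theorem T7.bc_ne {y v a b c : G} (h : T7 y v a b c) : b * c ≠ c * b := by
  intro hbc
  have h1 : b = c := eq_of_comm h.bsq h.csq hbc h.cbr
  have h2 : a = b := eq_of_comm h.asq h.bsq (by rw [h1, h.ca]) h.bbr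
  have h3 : v = a := eq_of_comm h.sq h.asq (by rw [h2, h.bv]) h.abr
  have h4 : v * y * v⁻¹ = y⁻¹ := by rw [h3, h.ainv]
  have h5 : v⁻¹ = v := inv_eq_of_mul_eq_one_left h.sq
  have h6 : v * y * (v * y) = 1 := by
    rw [h5] at h4
    calc v * y * (v * y) = v * y * v * y := by group
      _ = 1 := by rw [h4, inv_mul_cancel]
  have h7 : v * y = 1 := by
    have h8 := h.br
    rwa [pow_succ, pow_two, h6, one_mul] at h8
  have h8 : y = v := by
    rw [mul_eq_one_iff_inv_eq] at h7
    rw [← h7, h5]
  have h9 : y * y = 1 := by rw [h8, h.sq]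
  have h10 := h.cube
  rw [h9, one_mul] at h10
  exact h.y_ne h10

end map

/-- the group `Spor.J4` -/
local notation "𝒢" => Cfsg.Spor.J4

theorem Tau.map {τ y : 𝒢} {l : List 𝒢} (h : Tau τ y l) (f : 𝒢 →* 𝒢) (hf : Function.Injective f) :
    Tau (f τ) (f y) (l.map f) where
  ne := fun h1 => h.ne (hf (by rw [h1, map_one]))
  sq := by rw [← map_mul, h.sq, map_one]
  inv := by rw [← map_mul, ← map_inv, ← map_mul, h.inv, map_inv]
  comm := by
    intro x hx
    obtain ⟨z, hz, rfl⟩ := List.mem_map.1 hx
    rw [← map_mul, h.comm z hz, map_mul]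

/-- exclusion: the conjugates of the generators of `M` fix `u`, and so does an element `k` whose order does
not divide the order of `M` -/
theorem false_of_gens {M S : Subgroup 𝒢} (h : NL M S) {X : Set 𝒢} (hX : M ≤ Subgroup.closure X) {g : 𝒢}
    {u : Row} (hu : u ≠ 0) (hf : ∀ x ∈ X, ra u (g * x * g⁻¹) = u) {k : 𝒢} (hk : ra u k = u)
    (hd : ¬ orderOf k ∣ Nat.card M) : False := by
  have h1 : M ≤ St (ra u g) := by
    refine hX.trans ?_
    rw [Subgroup.closure_le]
    intro x hx
    show ra (ra u g) x = ra u g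
    have h2 : g * x = g * x * g⁻¹ * g := by group
    rw [← ra_mul, h2, ra_mul, hf x hx]
  have h2 : ra u g ≠ 0 := by
    intro h3
    apply hu
    rw [← ra_inv h3, ra_zero]
  refine false_of_order h.coatom h2 h1 (g := g⁻¹ * k * g) ?_ ?_
  · have h3 : g * (g⁻¹ * k * g) = k * g := by group
    rw [← ra_mul, h3, ra_mul, hk]
  · have h3 : orderOf (g⁻¹ * k * g) = orderOf k := by
      have h4 := (MulAut.conj g⁻¹).toMonoidHom
      have h5 : g⁻¹ * k * g = MulAut.conj g⁻¹ k := by
        rw [MulAut.conj_apply, inv_inv]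
      rw [h5]
      exact orderOf_injective (MulAut.conj g⁻¹).toMonoidHom (MulAut.conj g⁻¹).injective k
    rwa [h3]

end Cfsg.Agent.H856.JM
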