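import Cfsg.Agent.H856.JM.Small
import Cfsg.Agent.H856.JM.Conj

/-!
# S5580, Part III: no maximal subgroup of `J4` has socle `A_7` or `A_8` (helper856)

The hypotheses: `hcard` (number of the involutions inverting `y0`) and `Five` (the classes of the triples generating `A_5`).
-/

set_option autoImplicit false
set_option maxRecDepth 100000

open Cfsg

namespace Cfsg.Agent.H856.JM.A78

open Cfsg.Agent.Lib Cfsg.Agent.Lib.F2Mat Cfsg.Agent.Lib.F2MatGroup
open Cfsg.Agent.J4.Rep112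
open Cfsg.Agent.H858.VK
open Cfsg.Agent.H878.JM.Base Cfsg.Agent.H878.JM.Elts
open Cfsg.Agent.H111.JM.Eng Cfsg.Agent.H111.JM.Env Cfsg.Agent.H111.JM.TList
open Cfsg.Agent.H856.JM.CommData Cfsg.Agent.H856.JM.CommTest Cfsg.Agent.H856.JM.Comm Cfsg.Agent.H856.JM.Small
open Cfsg.Agent.H860.JM (NL Excl cj)

/-- the group `Spor.J4` -/
local notation "𝒢" => Cfsg.Spor.J4

/-- the classes of the triples generating `A_5` -/
def Five : Prop := ∀ y v a : 𝒢, T5 y v a → ∃ g : 𝒢, g * y * g⁻¹ = y0 ∧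
  ((g * v * g⁻¹ = v3 ∧ g * a * g⁻¹ = a3) ∨ (g * v * g⁻¹ = v4 ∧ g * a * g⁻¹ = a4) ∨
   (g * v * g⁻¹ = v5 ∧ g * a * g⁻¹ = a5) ∨ (g * v * g⁻¹ = v6 ∧ g * a * g⁻¹ = a6) ∨
   (g * v * g⁻¹ = v7 ∧ g * a * g⁻¹ = a7a) ∨ (g * v * g⁻¹ = v7 ∧ g * a * g⁻¹ = a7b) ∨
   (g * v * g⁻¹ = v8 ∧ g * a * g⁻¹ = a8) ∨ (g * v * g⁻¹ = v9 ∧ g * a * g⁻¹ = a9a) ∨
   (g * v * g⁻¹ = v9 ∧ g * a * g⁻¹ = a9b) ∨ (g * v * g⁻¹ = v9 ∧ g * a * g⁻¹ = a9c))

/-! ### The kernel checks -/

/-- the all-one row vector, fixed by `2^11 : M24` -/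
def p0 : ℕ := 5192296858534827628530496329220095

/-- a row vector fixed by the subgroup `A_7` of class 7 -/
def w3 : ℕ := 273778381407776305952556960527884

/-- an involution fixing `w3` -/
def tw : List ℕ := [277, 278, 276, 278, 276, 278, 277, 276, 278, 275, 278, 276, 277, 278, 276, 278, 276, 278, 277]

/-- an element of order 11 fixing `w3`: the entries of `LE` and `tw` -/
def gw : List ℕ := [266, 206] ++ tw ++ [266, 18] ++ tw ++ [17]

/-- the row vector `u` is fixed -/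
def fx (u : ℕ) (L : List ℕ) (ps : List ℕ) : Bool :=
  ps.all fun k => Nat.beq (vmul 112 u (get (F2Mat.one 112) L k)) u

/-- pairs `(b, c)` with `(b * c) ^ 3 ≠ 1` -/
def prs : List (ℕ × ℕ) := [(117, 65), (117, 64), (108, 65), (108, 64), (101, 65), (101, 64), (94, 65), (94, 64), (86, 65), (86, 64), (78, 65), (78, 64), (66, 65), (66, 64), (54, 45), (54, 36), (31, 17)]

/-- the words of the elements of order 23 and 11 -/
def sx : List (List ℕ) := [[296, 297], gw.map fun k => k + 1]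

/-- all checks -/
def chks (L1 L2 : List ℕ) : Bool :=
  cond (fx p0 L1 (ps3 ++ ps4)) (cond (fx p0 L2 [282, 270, 269, 235, 228])
    (cond (fx w3 L2 [282, 266, 206, 26, 18, 17])
      (cond (neqs 112 (prs.map fun p => ([p.1, p.2, p.1, p.2, p.1, p.2], [])) L2)
        (run 112 sx L2 fun L3 => cond (fx p0 L3 [1]) (cond (fx w3 L3 [0])
          (cond (eqs 112 [(List.replicate 23 1, []), (List.replicate 11 0, [])] L3)
            (neqs 112 [([1], []), ([0], [])] L3) false) false) false) false) false) false) false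

theorem chk : run 112 slpJ codes (fun L => run 112 slpC L fun L1 => run 112 slpE L fun L2 =>
    chks L1 L2) = true := by decide +kernel

theorem fx_sound {L : List 𝒢} {L' : List ℕ} (h : List.Forall₂ (Codes 112) (L.map rho) L') {u : ℕ} {ps : List ℕ}
    (hf : fx u L' ps = true) {k : ℕ} (hk : k ∈ ps) : ra (toVec 112 u) (getG L k) = toVec 112 u := by
  unfold fx at hf
  rw [List.all_eq_true] at hf
  have h1 := Nat.eq_of_beq_eq_true (hf k hk)
  unfold ra
  rw [← codes_vmul (codes_getG h k), h1]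

/-- the facts -/
structure Facts : Prop where
  p0_comm : ∀ k ∈ ps3 ++ ps4, ra (toVec 112 p0) (getG LK k) = toVec 112 p0
  p0_gen : ∀ k ∈ [282, 270, 269, 235, 228], ra (toVec 112 p0) (getG LE k) = toVec 112 p0
  w3_gen : ∀ k ∈ [282, 266, 206, 26, 18, 17], ra (toVec 112 w3) (getG LE k) = toVec 112 w3
  pr : ∀ p ∈ prs, (getG LE p.1 * getG LE p.2) ^ 3 ≠ 1
  p0_el : ∃ k, ra (toVec 112 p0) k = toVec 112 p0 ∧ orderOf k = 23
  w3_el : ∃ k, ra (toVec 112 w3) k = toVec 112 w3 ∧ orderOf k = 11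

theorem facts : Facts := by
  obtain ⟨L1, L2, h1, h2, h⟩ := run_both (k := chks) chk
  unfold chks at h
  obtain ⟨a1, h⟩ := CommTest.cond_true h
  obtain ⟨a2, h⟩ := CommTest.cond_true h
  obtain ⟨a3, h⟩ := CommTest.cond_true h
  obtain ⟨a4, h⟩ := CommTest.cond_true h
  obtain ⟨L3, h3, h⟩ := run_sound h2 h
  rw [runG_map] at h3
  obtain ⟨a5, h⟩ := CommTest.cond_true h
  obtain ⟨a6, h⟩ := CommTest.cond_true h
  obtain ⟨a7, a8⟩ := CommTest.cond_true h
  have e1 : ∀ q ∈ [(List.replicate 23 1, ([] : List ℕ)), (List.replicate 11 0, [])],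
      evG (runG sx LE) q.1 = evG (runG sx LE) q.2 := by
    intro q hq
    apply rho_injective
    rw [← evG_map, ← evG_map]
    exact eqs_sound h3 a7 q hq
  have e2 : ∀ q ∈ [([1], ([] : List ℕ)), ([0], [])], evG (runG sx LE) q.1 ≠ evG (runG sx LE) q.2 := by
    intro q hq h0
    have h1 := congrArg rho h0
    rw [← evG_map, ← evG_map] at h1
    exact neqs_sound (by norm_num) h3 a8 q hq h1
  have hrep : ∀ (L : List 𝒢) (n k : ℕ), evG L (List.replicate n k) = getG L k ^ n := by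
    intro L n k
    induction n with
    | zero => rw [List.replicate_zero, evG_nil, pow_zero]
    | succ n ih => rw [List.replicate_succ, evG_cons, ih, pow_succ']
  have f23 : Fact (Nat.Prime 23) := ⟨by norm_num⟩
  have f11 : Fact (Nat.Prime 11) := ⟨by norm_num⟩
  refine ⟨fun k hk => fx_sound h1 a1 hk, fun k hk => fx_sound h2 a2 hk, fun k hk => fx_sound h2 a3 hk, ?_,
    ⟨getG (runG sx LE) 1, fx_sound h3 a5 (by simp), orderOf_eq_prime ?_ ?_⟩,
    ⟨getG (runG sx LE) 0, fx_sound h3 a6 (by simp), orderOf_eq_prime ?_ ?_⟩⟩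
  · intro p hp h0
    have h4 : evG LE [p.1, p.2, p.1, p.2, p.1, p.2] = evG LE [] := by
      simp only [evG_cons, evG_nil, mul_one]
      rw [← h0, pow_succ, pow_two]
      simp only [mul_assoc]
    have h5 := congrArg rho h4
    rw [← evG_map, ← evG_map] at h5
    exact neqs_sound (by norm_num) h2 a4 _ (List.mem_map.2 ⟨p, hp, rfl⟩) h5
  · have h4 := e1 (List.replicate 23 1, []) (by simp)
    rwa [hrep, evG_nil] at h4
  · intro h4
    apply e2 ([1], []) (by simp)
    rw [evG_cons, evG_nil, mul_one, h4]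
  · have h4 := e1 (List.replicate 11 0, []) (by simp)
    rwa [hrep, evG_nil] at h4
  · intro h4
    apply e2 ([0], []) (by simp)
    rw [evG_cons, evG_nil, mul_one, h4]

theorem p0_ne : toVec 112 p0 ≠ 0 := by
  intro h
  have h1 := congrFun h 0
  rw [toVec_apply] at h1
  revert h1
  decide +kernel

theorem w3_ne : toVec 112 w3 ≠ 0 := by
  intro h
  have h1 := congrFun h 2
  rw [toVec_apply] at h1
  revert h1
  decide +kernel

/-! ### The rows -/

variable {M S : Subgroup 𝒢}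

theorem p0_lst {t : 𝒢} (h : t ∈ cl3 ∨ t ∈ cl4) : ra (toVec 112 p0) t = toVec 112 p0 := by
  rcases h with h | h
  · obtain ⟨k, hk, rfl⟩ := List.mem_map.1 h
    exact facts.p0_comm k (List.mem_append_left _ hk)
  · obtain ⟨k, hk, rfl⟩ := List.mem_map.1 h
    exact facts.p0_comm k (List.mem_append_right _ hk)

/-- the generators of `M` (class 3 or 4) fix `p0` -/
theorem false_p0 (h : NL M S) {X : Set 𝒢} (hX : M ≤ Subgroup.closure X) {g : 𝒢}
    (hf : ∀ x ∈ X, ra (toVec 112 p0) (g * x * g⁻¹) = toVec 112 p0) (hd : ¬ 23 ∣ Nat.card M) : False := by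
  obtain ⟨k, hk, ho⟩ := facts.p0_el
  exact false_of_gens h hX p0_ne hf hk (by rw [ho]; exact hd)

theorem false_w3 (h : NL M S) {X : Set 𝒢} (hX : M ≤ Subgroup.closure X) {g : 𝒢}
    (hf : ∀ x ∈ X, ra (toVec 112 w3) (g * x * g⁻¹) = toVec 112 w3) (hd : ¬ 11 ∣ Nat.card M) : False := by
  obtain ⟨k, hk, ho⟩ := facts.w3_el
  exact false_of_gens h hX w3_ne hf hk (by rw [ho]; exact hd)

theorem ty_of {t : 𝒢} (h1 : t * t = 1) (h2 : t * y0 * t⁻¹ = y0⁻¹) : TY t := ⟨h1, h2⟩

/-- the extension of `A_5` to `A_7`: either `b`, `c` commute with `v3` or `v4`, or we are in class 7 -/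
theorem seven (hcard : Nat.card {t // TY t} ≤ 10296) {v a b c : 𝒢} (h : T7 y0 v a b c)
    (hva : (v = v3 ∧ a = a3) ∨ (v = v4 ∧ a = a4) ∨ (v = v5 ∧ a = a5) ∨ (v = v6 ∧ a = a6) ∨ (v = v7 ∧ a = a7a) ∨
      (v = v7 ∧ a = a7b) ∨ (v = v8 ∧ a = a8) ∨ (v = v9 ∧ a = a9a) ∨ (v = v9 ∧ a = a9b) ∨ (v = v9 ∧ a = a9c)) :
    (v = v3 ∧ a = a3) ∨ (v = v4 ∧ a = a4) ∨
      (v = v7 ∧ a = a7a ∧ (b = getG LE 26 ∨ b = getG LE 18) ∧ c = getG LE 17) := by
  have hb : TY b := ⟨h.bsq, h.binv⟩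
  have hc : TY c := ⟨h.csq, h.cinv⟩
  have hbv := h.bv
  have hcv := h.cv
  have hab := h.bbr
  have hca := h.ca
  have hbc := h.cbr
  clear h
  rcases hva with ⟨rfl, rfl⟩ | ⟨rfl, rfl⟩ | ⟨rfl, rfl⟩ | ⟨rfl, rfl⟩ | ⟨rfl, rfl⟩ | ⟨rfl, rfl⟩ | ⟨rfl, rfl⟩ |
    ⟨rfl, rfl⟩ | ⟨rfl, rfl⟩ | ⟨rfl, rfl⟩
  · exact Or.inl ⟨rfl, rfl⟩
  · exact Or.inr (Or.inl ⟨rfl, rfl⟩)
  · exfalso
    obtain ⟨p, hp, rfl⟩ := List.mem_map.1 (B_a5 hcard hb hbv hab)
    obtain ⟨q, hq, rfl⟩ := List.mem_map.1 (T_a5 hcard hc hcv hca)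
    have hpq : ∀ p ∈ [117, 108, 101, 94, 86, 78, 66], ∀ q ∈ [65, 64], (p, q) ∈ prs := by decide
    exact facts.pr (p, q) (hpq p hp q hq) hbc
  · exfalso
    obtain ⟨p, hp, rfl⟩ := List.mem_map.1 (B_a6 hcard hb hbv hab)
    obtain ⟨q, hq, rfl⟩ := List.mem_map.1 (T_a6 hcard hc hcv hca)
    have hpq : ∀ p ∈ [54], ∀ q ∈ [45, 36], (p, q) ∈ prs := by decide
    exact facts.pr (p, q) (hpq p hp q hq) hbc
  · right; right
    obtain ⟨p, hp, rfl⟩ := List.mem_map.1 (B_a7a hcard hb hbv hab)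
    obtain ⟨q, hq, rfl⟩ := List.mem_map.1 (T_a7a hcard hc hcv hca)
    simp only [List.mem_cons, List.not_mem_nil, or_false] at hp hq
    subst hq
    rcases hp with rfl | rfl | rfl
    · exact absurd hbc (facts.pr (31, 17) (by simp [prs]))
    · exact ⟨rfl, rfl, Or.inl rfl, rfl⟩
    · exact ⟨rfl, rfl, Or.inr rfl, rfl⟩
  · exfalso
    have h := B_a7b hcard hb hbv hab
    simp at h
  · exfalso
    have h := B_a8 hcard hb hbv hab
    simp at h
  · exfalso
    have h := B_a9a hcard hb hbv hab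
    simp at h
  · exfalso
    have h := B_a9b hcard hb hbv hab
    simp at h
  · exfalso
    have h := B_a9c hcard hb hbv hab
    simp at h

theorem excl_A7 (hcard : Nat.card {t // TY t} ≤ 10296) (hfive : Five) : Excl (alternatingGroup (Fin 7)) := by
  intro M S h e
  have hdvd : Nat.card M ∣ 5040 := card_dvd h (n := 7) (by norm_num) (by norm_num) e
  have h23 : ¬ 23 ∣ Nat.card M := fun h1 => by have := h1.trans hdvd; revert this; decide
  have h11 : ¬ 11 ∣ Nat.card M := fun h1 => by have := h1.trans hdvd; revert this; decide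
  obtain ⟨y, v, a, b, c, hT, hS, hM⟩ := alt7 h e
  obtain ⟨g, hy, hva⟩ := hfive y v a hT.toT5
  have hT' := hT.map (f := (MulAut.conj g).toMonoidHom) (MulAut.conj g).injective
  have hcj : ∀ x : 𝒢, (MulAut.conj g).toMonoidHom x = g * x * g⁻¹ := fun x => rfl
  simp only [hcj, hy] at hT'
  have hX : M ≤ Subgroup.closure {y, v, a, b, c} ∨ ∃ τ, Tau τ y [v, a, b, c] ∧
      M ≤ Subgroup.closure (insert τ {y, v, a, b, c}) := by
    rcases hM with h1 | ⟨τ, h1, h2⟩
    · left; rw [h1, hS]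
    · right
      refine ⟨τ, h1, ?_⟩
      rw [h2, hS]
      refine sup_le (Subgroup.closure_mono (Set.subset_insert _ _)) (Subgroup.closure_mono ?_)
      exact Set.singleton_subset_iff.2 (Set.mem_insert _ _)
  have hτ : ∀ τ, Tau τ y [v, a, b, c] → TY (g * τ * g⁻¹) ∧
      ∀ x ∈ [v, a, b, c], g * τ * g⁻¹ * (g * x * g⁻¹) = g * x * g⁻¹ * (g * τ * g⁻¹) := by
    intro τ h1
    have h2 := h1.map (MulAut.conj g).toMonoidHom (MulAut.conj g).injective
    simp only [hcj] at h2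
    rw [hy] at h2
    exact ⟨⟨h2.sq, h2.inv⟩, fun x hx => h2.comm _ (List.mem_map.2 ⟨x, hx, rfl⟩)⟩
  rcases seven hcard hT' hva with ⟨h1, h2⟩ | ⟨h1, h2⟩ | ⟨h1, h2, h3, h4⟩
  · -- class 3
    have hb : ∀ t : 𝒢, TY t → t * (g * v * g⁻¹) = g * v * g⁻¹ * t → ra (toVec 112 p0) t = toVec 112 p0 := by
      intro t h3 h4
      rw [h1] at h4
      exact p0_lst (Or.inl (comm3 hcard h3 h4))
    have hall : ∀ x ∈ ({y, v, a, b, c} : Set 𝒢), ra (toVec 112 p0) (g * x * g⁻¹) = toVec 112 p0 := by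
      intro x hx
      simp only [Set.mem_insert_iff, Set.mem_singleton_iff] at hx
      rcases hx with rfl | rfl | rfl | rfl | rfl
      · rw [hy, ← e_y0]; exact facts.p0_gen 282 (by simp)
      · rw [h1, ← e_v3]; exact facts.p0_gen 270 (by simp)
      · rw [h2]; exact facts.p0_gen 235 (by simp)
      · exact hb _ ⟨hT'.bsq, hT'.binv⟩ hT'.bv
      · exact hb _ ⟨hT'.csq, hT'.cinv⟩ hT'.cv
    rcases hX with h5 | ⟨τ, h6, h5⟩
    · exact false_p0 h h5 hall h23
    · refine false_p0 h h5 (g := g) (fun x hx => ?_) h23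
      rcases Set.mem_insert_iff.1 hx with rfl | hx
      · exact hb _ (hτ x h6).1 ((hτ x h6).2 v (by simp))
      · exact hall x hx
  · -- class 4
    have hb : ∀ t : 𝒢, TY t → t * (g * v * g⁻¹) = g * v * g⁻¹ * t → ra (toVec 112 p0) t = toVec 112 p0 := by
      intro t h3 h4
      rw [h1] at h4
      exact p0_lst (Or.inr (comm4 hcard h3 h4))
    have hall : ∀ x ∈ ({y, v, a, b, c} : Set 𝒢), ra (toVec 112 p0) (g * x * g⁻¹) = toVec 112 p0 := by
      intro x hx
      simp only [Set.mem_insert_iff, Set.mem_singleton_iff] at hx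
      rcases hx with rfl | rfl | rfl | rfl | rfl
      · rw [hy, ← e_y0]; exact facts.p0_gen 282 (by simp)
      · rw [h1, ← e_v4]; exact facts.p0_gen 269 (by simp)
      · rw [h2]; exact facts.p0_gen 228 (by simp)
      · exact hb _ ⟨hT'.bsq, hT'.binv⟩ hT'.bv
      · exact hb _ ⟨hT'.csq, hT'.cinv⟩ hT'.cv
    rcases hX with h5 | ⟨τ, h6, h5⟩
    · exact false_p0 h h5 hall h23
    · refine false_p0 h h5 (g := g) (fun x hx => ?_) h23
      rcases Set.mem_insert_iff.1 hx with rfl | hx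
      · exact hb _ (hτ x h6).1 ((hτ x h6).2 v (by simp))
      · exact hall x hx
  · -- class 7
    rcases hX with h5 | ⟨τ, h6, -⟩
    · refine false_w3 h h5 (g := g) (fun x hx => ?_) h11
      simp only [Set.mem_insert_iff, Set.mem_singleton_iff] at hx
      rcases hx with rfl | rfl | rfl | rfl | rfl
      · rw [hy, ← e_y0]; exact facts.w3_gen 282 (by simp)
      · rw [h1, ← e_v7]; exact facts.w3_gen 266 (by simp)
      · rw [h2]; exact facts.w3_gen 206 (by simp)
      · rcases h3 with h3 | h3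
        · rw [h3]; exact facts.w3_gen 26 (by simp)
        · rw [h3]; exact facts.w3_gen 18 (by simp)
      · rw [h4]; exact facts.w3_gen 17 (by simp)
    · obtain ⟨h7, h8⟩ := hτ τ h6
      have h9 := h8 v (by simp)
      rw [h1] at h9
      have h10 := h8 a (by simp)
      rw [h2] at h10
      have h11' := T_a7a hcard h7 h9 h10
      simp only [List.map_cons, List.map_nil, List.mem_singleton] at h11'
      have h12 := h8 b (by simp)
      rw [h11', ← h4] at h12
      exact hT'.bc_ne h12.symm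

theorem excl_A8 (hcard : Nat.card {t // TY t} ≤ 10296) (hfive : Five) : Excl (alternatingGroup (Fin 8)) := by
  intro M S h e
  have hdvd : Nat.card M ∣ 40320 := card_dvd h (n := 8) (by norm_num) (by norm_num) e
  have h23 : ¬ 23 ∣ Nat.card M := fun h1 => by have := h1.trans hdvd; revert this; decide
  obtain ⟨y, v, a, b, c, d, hT, hS, hM⟩ := alt8 h e
  obtain ⟨g, hy, hva⟩ := hfive y v a hT.toT5
  have hT' := hT.map (f := (MulAut.conj g).toMonoidHom) (MulAut.conj g).injective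
  have hcj : ∀ x : 𝒢, (MulAut.conj g).toMonoidHom x = g * x * g⁻¹ := fun x => rfl
  simp only [hcj, hy] at hT'
  have hX : M ≤ Subgroup.closure {y, v, a, b, c, d} ∨ ∃ τ, Tau τ y [v, a, b, c, d] ∧
      M ≤ Subgroup.closure (insert τ {y, v, a, b, c, d}) := by
    rcases hM with h1 | ⟨τ, h1, h2⟩
    · left; rw [h1, hS]
    · right
      refine ⟨τ, h1, ?_⟩
      rw [h2, hS]
      refine sup_le (Subgroup.closure_mono (Set.subset_insert _ _)) (Subgroup.closure_mono ?_)
      exact Set.singleton_subset_iff.2 (Set.mem_insert _ _)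
  have hτ : ∀ τ, Tau τ y [v, a, b, c, d] → TY (g * τ * g⁻¹) ∧
      ∀ x ∈ [v, a, b, c, d], g * τ * g⁻¹ * (g * x * g⁻¹) = g * x * g⁻¹ * (g * τ * g⁻¹) := by
    intro τ h1
    have h2 := h1.map (MulAut.conj g).toMonoidHom (MulAut.conj g).injective
    simp only [hcj] at h2
    rw [hy] at h2
    exact ⟨⟨h2.sq, h2.inv⟩, fun x hx => h2.comm _ (List.mem_map.2 ⟨x, hx, rfl⟩)⟩
  rcases seven hcard hT'.toT7 hva with ⟨h1, h2⟩ | ⟨h1, h2⟩ | ⟨h1, h2, h3, h4⟩
  · -- class 3
    have hb : ∀ t : 𝒢, TY t → t * (g * v * g⁻¹) = g * v * g⁻¹ * t → ra (toVec 112 p0) t = toVec 112 p0 := by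
      intro t h3 h4
      rw [h1] at h4
      exact p0_lst (Or.inl (comm3 hcard h3 h4))
    have hall : ∀ x ∈ ({y, v, a, b, c, d} : Set 𝒢), ra (toVec 112 p0) (g * x * g⁻¹) = toVec 112 p0 := by
      intro x hx
      simp only [Set.mem_insert_iff, Set.mem_singleton_iff] at hx
      rcases hx with rfl | rfl | rfl | rfl | rfl | rfl
      · rw [hy, ← e_y0]; exact facts.p0_gen 282 (by simp)
      · rw [h1, ← e_v3]; exact facts.p0_gen 270 (by simp)
      · rw [h2]; exact facts.p0_gen 235 (by simp)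
      · exact hb _ ⟨hT'.bsq, hT'.binv⟩ hT'.bv
      · exact hb _ ⟨hT'.csq, hT'.cinv⟩ hT'.cv
      · exact hb _ ⟨hT'.dsq, hT'.dinv⟩ hT'.dv
    rcases hX with h5 | ⟨τ, h6, h5⟩
    · exact false_p0 h h5 hall h23
    · refine false_p0 h h5 (g := g) (fun x hx => ?_) h23
      rcases Set.mem_insert_iff.1 hx with rfl | hx
      · exact hb _ (hτ x h6).1 ((hτ x h6).2 v (by simp))
      · exact hall x hx
  · -- class 4
    have hb : ∀ t : 𝒢, TY t → t * (g * v * g⁻¹) = g * v * g⁻¹ * t → ra (toVec 112 p0) t = toVec 112 p0 := by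
      intro t h3 h4
      rw [h1] at h4
      exact p0_lst (Or.inr (comm4 hcard h3 h4))
    have hall : ∀ x ∈ ({y, v, a, b, c, d} : Set 𝒢), ra (toVec 112 p0) (g * x * g⁻¹) = toVec 112 p0 := by
      intro x hx
      simp only [Set.mem_insert_iff, Set.mem_singleton_iff] at hx
      rcases hx with rfl | rfl | rfl | rfl | rfl | rfl
      · rw [hy, ← e_y0]; exact facts.p0_gen 282 (by simp)
      · rw [h1, ← e_v4]; exact facts.p0_gen 269 (by simp)
      · rw [h2]; exact facts.p0_gen 228 (by simp)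
      · exact hb _ ⟨hT'.bsq, hT'.binv⟩ hT'.bv
      · exact hb _ ⟨hT'.csq, hT'.cinv⟩ hT'.cv
      · exact hb _ ⟨hT'.dsq, hT'.dinv⟩ hT'.dv
    rcases hX with h5 | ⟨τ, h6, h5⟩
    · exact false_p0 h h5 hall h23
    · refine false_p0 h h5 (g := g) (fun x hx => ?_) h23
      rcases Set.mem_insert_iff.1 hx with rfl | hx
      · exact hb _ (hτ x h6).1 ((hτ x h6).2 v (by simp))
      · exact hall x hx
  · -- class 7: `d = c`
    have h5 : TY (g * d * g⁻¹) := ⟨hT'.dsq, hT'.dinv⟩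
    have h6 := hT'.dv
    rw [h1] at h6
    have h7 := hT'.da
    rw [h2] at h7
    have h8 := T_a7a hcard h5 h6 h7
    simp only [List.map_cons, List.map_nil, List.mem_singleton] at h8
    have h9 := hT'.db
    rw [h8, ← h4] at h9
    exact hT'.toT7.bc_ne h9.symm

end Cfsg.Agent.H856.JM.A78
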