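import Cfsg.Agent.H856.JM.Comm
import Cfsg.Agent.H878.JM.Elts

/-!
# The involutions extending the ten triples `(y0, v i, a)` (helper856)

`B_a3`, …, `B_a9c` : the elements `b` with `TY b`, `b * v = v * b`, `(a * b) ^ 3 = 1`;
`T_a5`, `T_a6`, `T_a7a`, `T_a9a` (and `T_a9b`, `T_a9c`) : the elements `t` with `TY t`, `t * v = v * t`, `t * a = a * t`.
-/

set_option autoImplicit false
set_option maxRecDepth 100000

open Cfsg

namespace Cfsg.Agent.H856.JM.Small

open Cfsg.Agent.Lib Cfsg.Agent.Lib.F2Mat Cfsg.Agent.Lib.F2MatGroup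
open Cfsg.Agent.J4.Rep112
open Cfsg.Agent.H858.VK
open Cfsg.Agent.H878.JM.Base Cfsg.Agent.H878.JM.Elts
open Cfsg.Agent.H111.JM.Eng Cfsg.Agent.H111.JM.Env Cfsg.Agent.H111.JM.TList
open Cfsg.Agent.H856.JM.CommData Cfsg.Agent.H856.JM.CommTest Cfsg.Agent.H856.JM.Comm

/-- codes of both environments from one run -/
theorem run_both {k : List ℕ → List ℕ → Bool} (h : run 112 slpJ codes (fun L =>
    run 112 slpC L fun L1 => run 112 slpE L fun L2 => k L1 L2) = true) :
    ∃ L1 L2, List.Forall₂ (Codes 112) (LK.map rho) L1 ∧ List.Forall₂ (Codes 112) (LE.map rho) L2 ∧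
      k L1 L2 = true := by
  obtain ⟨L, h1, h2⟩ := Cfsg.Agent.H878.JM.Base.run_env h
  obtain ⟨L1, h3, h4⟩ := run_sound h1 h2
  obtain ⟨L2, h5, h6⟩ := run_sound h1 h4
  refine ⟨L1, L2, ?_, ?_, h6⟩
  · unfold LK
    rw [← runG_map]
    exact h3
  · unfold Cfsg.Agent.H878.JM.Elts.LE
    rw [← runG_map]
    exact h5

/-- positions of the commuting elements in `LK`, position of `a` in `LE`, positions of the elements `b` in `LE` -/
def dB : List (List ℕ × ℕ × List ℕ) := [(ps3, 235, [221, 171, 163, 154, 150, 138]),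
  (ps4, 228, [132, 119]),
  (ps5, 221, [117, 108, 101, 94, 86, 78, 66]),
  (ps6, 209, [54]),
  (ps7, 206, [31, 26, 18]),
  (ps7, 204, []),
  (ps8, 193, []),
  (ps9, 184, []),
  (ps9, 179, []),
  (ps9, 193, [])]

/-- positions of the commuting elements in `LK`, position of `a` in `LE`, positions of the elements `t` in `LE` -/
def dT : List (List ℕ × ℕ × List ℕ) := [(ps5, 221, [65, 64]),
  (ps6, 209, [45, 36]),
  (ps7, 206, [17]),
  (ps9, 184, [4]),
  (ps9, 179, []),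
  (ps9, 193, [])]

/-- the key of a matrix -/
def kk (M : ℕ) : ℕ := key 12159 24 M

/-- test for `(a * t) ^ 3 = 1` -/
def tB (A M : ℕ) (K : List ℕ) : Bool :=
  force (F2Mat.mul 112 A M) fun P => cond (Nat.beq (F2Mat.mul 112 P (F2Mat.mul 112 P P)) (F2Mat.one 112))
    (mem (kk M) K) true

/-- test for `t * a = a * t` -/
def tT (A M : ℕ) (K : List ℕ) : Bool :=
  cond (Nat.beq (F2Mat.mul 112 M A) (F2Mat.mul 112 A M)) (mem (kk M) K) true

/-- all tests -/
def all (T : ℕ → ℕ → List ℕ → Bool) (D : List (List ℕ × ℕ × List ℕ)) (L1 L2 : List ℕ) : Bool :=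
  D.all fun d => cond (d.2.2.all fun b => eqs 112 [([b, b], []), ([b, 282, b, 282], [])] L2)
    (force (get (F2Mat.one 112) L2 d.2.1) fun A => d.1.all fun k =>
      force (get (F2Mat.one 112) L1 k) fun M => T A M (d.2.2.map fun b => kk (get (F2Mat.one 112) L2 b))) false

theorem chkB : run 112 slpJ codes (fun L => run 112 slpC L fun L1 => run 112 slpE L fun L2 =>
    cond (all tB dB L1 L2) (all tT dT L1 L2) false) = true := by decide +kernel

theorem codes_getG {L : List Spor.J4} {L' : List ℕ} (h : List.Forall₂ (Codes 112) (L.map rho) L') (k : ℕ) :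
    Codes 112 (rho (getG L k)) (get (F2Mat.one 112) L' k) := by
  have h1 := codes_get h k
  rwa [getG_map] at h1

theorem all_sound {T : ℕ → ℕ → List ℕ → Bool} {D : List (List ℕ × ℕ × List ℕ)} {L1 L2 : List ℕ}
    (h2 : List.Forall₂ (Codes 112) (LE.map rho) L2)
    (h : all T D L1 L2 = true) {d : List ℕ × ℕ × List ℕ} (hd : d ∈ D) :
    (∀ b ∈ d.2.2, TY (getG LE b)) ∧ ∀ k ∈ d.1, T (get (F2Mat.one 112) L2 d.2.1) (get (F2Mat.one 112) L1 k)
      (d.2.2.map fun b => kk (get (F2Mat.one 112) L2 b)) = true := by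
  unfold all at h
  rw [List.all_eq_true] at h
  obtain ⟨h3, h4⟩ := CommTest.cond_true (h d hd)
  rw [List.all_eq_true] at h3
  rw [force_eq, List.all_eq_true] at h4
  refine ⟨fun b hb => ?_, fun k hk => ?_⟩
  · have h5 : ∀ q ∈ [([b, b], ([] : List ℕ)), ([b, 282, b, 282], [])], evG LE q.1 = evG LE q.2 := by
      intro q hq
      apply rho_injective
      rw [← evG_map, ← evG_map]
      exact eqs_sound h2 (h3 b hb) q hq
    have e1 := h5 ([b, b], []) (by simp)
    have e2 := h5 ([b, 282, b, 282], []) (by simp)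
    simp only [evG_cons, evG_nil, mul_one, e_y0] at e1 e2
    refine ⟨e1, ?_⟩
    have h8 : (getG LE b)⁻¹ = getG LE b := inv_eq_of_mul_eq_one_left e1
    rw [h8]
    have h9 : getG LE b * y0 * getG LE b * y0 = 1 := by
      rw [← e2]; simp only [mul_assoc]
    exact (inv_eq_of_mul_eq_one_left h9).symm
  · have h5 := h4 k hk
    rwa [force_eq] at h5

theorem key_mem {L2 : List ℕ} (h2 : List.Forall₂ (Codes 112) (LE.map rho) L2) {B : List ℕ}
    (hcard : Nat.card {t // TY t} ≤ 10296) {t : Spor.J4} (ht : TY t) (hB : ∀ b ∈ B, TY (getG LE b)) {M : ℕ}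
    (hM : Codes 112 (rho t) M) (h : mem (kk M) (B.map fun b => kk (get (F2Mat.one 112) L2 b)) = true) :
    t ∈ B.map (getG LE) := by
  obtain ⟨b, hb, hk⟩ := List.mem_map.1 (mem_sound h)
  refine List.mem_map.2 ⟨b, hb, ?_⟩
  exact key_inj hcard (hB b hb) ht ⟨_, codes_getG h2 b, rfl⟩ ⟨M, hM, hk.symm⟩

theorem soundB (hcard : Nat.card {t // TY t} ≤ 10296) {d : List ℕ × ℕ × List ℕ} (hd : d ∈ dB) {t : Spor.J4}
    (ht : TY t) (hl : t ∈ lst d.1) (h3 : (getG LE d.2.1 * t) ^ 3 = 1) : t ∈ d.2.2.map (getG LE) := by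
  obtain ⟨L1, L2, h1, h2, h⟩ := run_both chkB
  obtain ⟨hb, hk⟩ := all_sound h2 (CommTest.cond_true h).1 hd
  obtain ⟨k, hk1, hk2⟩ := List.mem_map.1 hl
  have h4 := hk k hk1
  have h5 := codes_getG h1 k
  rw [hk2] at h5
  have h6 := codes_getG h2 d.2.1
  unfold tB at h4
  rw [force_eq] at h4
  have h7 := h6.mul h5
  have h8 := h7.mul (h7.mul h7)
  rw [← map_mul, ← map_mul, ← map_mul] at h8
  have h9 : getG LE d.2.1 * t * (getG LE d.2.1 * t * (getG LE d.2.1 * t)) = 1 := by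
    rw [← h3, pow_succ, pow_two]
    simp only [mul_assoc]
  rw [h9, map_one] at h8
  have h10 : F2Mat.mul 112 (F2Mat.mul 112 (get (F2Mat.one 112) L2 d.2.1) (get (F2Mat.one 112) L1 k))
      (F2Mat.mul 112 (F2Mat.mul 112 (get (F2Mat.one 112) L2 d.2.1) (get (F2Mat.one 112) L1 k))
      (F2Mat.mul 112 (get (F2Mat.one 112) L2 d.2.1) (get (F2Mat.one 112) L1 k))) = F2Mat.one 112 := by
    refine toMat_inj (n := 112) (mul_lt (by norm_num) _ _) one_lt' ?_
    unfold Codes at h8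
    rw [← h8, toMat_one]
    rfl
  rw [h10, Nat.beq_refl] at h4
  exact key_mem h2 hcard ht hb h5 h4

theorem soundT (hcard : Nat.card {t // TY t} ≤ 10296) {d : List ℕ × ℕ × List ℕ} (hd : d ∈ dT) {t : Spor.J4}
    (ht : TY t) (hl : t ∈ lst d.1) (h3 : t * getG LE d.2.1 = getG LE d.2.1 * t) :
    t ∈ d.2.2.map (getG LE) := by
  obtain ⟨L1, L2, h1, h2, h⟩ := run_both chkB
  obtain ⟨hb, hk⟩ := all_sound h2 (CommTest.cond_true h).2 hd
  obtain ⟨k, hk1, hk2⟩ := List.mem_map.1 hl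
  have h4 := hk k hk1
  have h5 := codes_getG h1 k
  rw [hk2] at h5
  have h6 := codes_getG h2 d.2.1
  unfold tT at h4
  have h7 := h6.mul h5
  have h8 := h5.mul h6
  rw [← map_mul] at h7 h8
  rw [h3] at h8
  have h10 : F2Mat.mul 112 (get (F2Mat.one 112) L1 k) (get (F2Mat.one 112) L2 d.2.1) =
      F2Mat.mul 112 (get (F2Mat.one 112) L2 d.2.1) (get (F2Mat.one 112) L1 k) := by
    refine toMat_inj (n := 112) (mul_lt (by norm_num) _ _) (mul_lt (by norm_num) _ _) ?_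
    unfold Codes at h7 h8
    rw [← h8, ← h7]
  rw [h10, Nat.beq_refl] at h4
  exact key_mem h2 hcard ht hb h5 h4

theorem B_a3 (hcard : Nat.card {t // TY t} ≤ 10296) {t : Spor.J4} (ht : TY t) (hv : t * v3 = v3 * t)
    (h3 : (a3 * t) ^ 3 = 1) : t ∈ ([221, 171, 163, 154, 150, 138] : List ℕ).map (getG LE) :=
  soundB hcard (d := (ps3, 235, [221, 171, 163, 154, 150, 138])) (by simp [dB]) ht (comm3 hcard ht hv) h3

theorem B_a4 (hcard : Nat.card {t // TY t} ≤ 10296) {t : Spor.J4} (ht : TY t) (hv : t * v4 = v4 * t)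
    (h3 : (a4 * t) ^ 3 = 1) : t ∈ ([132, 119] : List ℕ).map (getG LE) :=
  soundB hcard (d := (ps4, 228, [132, 119])) (by simp [dB]) ht (comm4 hcard ht hv) h3

theorem B_a5 (hcard : Nat.card {t // TY t} ≤ 10296) {t : Spor.J4} (ht : TY t) (hv : t * v5 = v5 * t)
    (h3 : (a5 * t) ^ 3 = 1) : t ∈ ([117, 108, 101, 94, 86, 78, 66] : List ℕ).map (getG LE) :=
  soundB hcard (d := (ps5, 221, [117, 108, 101, 94, 86, 78, 66])) (by simp [dB]) ht (comm5 hcard ht hv) h3

theorem B_a6 (hcard : Nat.card {t // TY t} ≤ 10296) {t : Spor.J4} (ht : TY t) (hv : t * v6 = v6 * t)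
    (h3 : (a6 * t) ^ 3 = 1) : t ∈ ([54] : List ℕ).map (getG LE) :=
  soundB hcard (d := (ps6, 209, [54])) (by simp [dB]) ht (comm6 hcard ht hv) h3

theorem B_a7a (hcard : Nat.card {t // TY t} ≤ 10296) {t : Spor.J4} (ht : TY t) (hv : t * v7 = v7 * t)
    (h3 : (a7a * t) ^ 3 = 1) : t ∈ ([31, 26, 18] : List ℕ).map (getG LE) :=
  soundB hcard (d := (ps7, 206, [31, 26, 18])) (by simp [dB]) ht (comm7 hcard ht hv) h3

theorem B_a7b (hcard : Nat.card {t // TY t} ≤ 10296) {t : Spor.J4} (ht : TY t) (hv : t * v7 = v7 * t)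
    (h3 : (a7b * t) ^ 3 = 1) : t ∈ ([] : List ℕ).map (getG LE) :=
  soundB hcard (d := (ps7, 204, [])) (by simp [dB]) ht (comm7 hcard ht hv) h3

theorem B_a8 (hcard : Nat.card {t // TY t} ≤ 10296) {t : Spor.J4} (ht : TY t) (hv : t * v8 = v8 * t)
    (h3 : (a8 * t) ^ 3 = 1) : t ∈ ([] : List ℕ).map (getG LE) :=
  soundB hcard (d := (ps8, 193, [])) (by simp [dB]) ht (comm8 hcard ht hv) h3

theorem B_a9a (hcard : Nat.card {t // TY t} ≤ 10296) {t : Spor.J4} (ht : TY t) (hv : t * v9 = v9 * t)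
    (h3 : (a9a * t) ^ 3 = 1) : t ∈ ([] : List ℕ).map (getG LE) :=
  soundB hcard (d := (ps9, 184, [])) (by simp [dB]) ht (comm9 hcard ht hv) h3

theorem B_a9b (hcard : Nat.card {t // TY t} ≤ 10296) {t : Spor.J4} (ht : TY t) (hv : t * v9 = v9 * t)
    (h3 : (a9b * t) ^ 3 = 1) : t ∈ ([] : List ℕ).map (getG LE) :=
  soundB hcard (d := (ps9, 179, [])) (by simp [dB]) ht (comm9 hcard ht hv) h3

theorem B_a9c (hcard : Nat.card {t // TY t} ≤ 10296) {t : Spor.J4} (ht : TY t) (hv : t * v9 = v9 * t)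
    (h3 : (a9c * t) ^ 3 = 1) : t ∈ ([] : List ℕ).map (getG LE) :=
  soundB hcard (d := (ps9, 193, [])) (by simp [dB]) ht (comm9 hcard ht hv) h3

theorem T_a5 (hcard : Nat.card {t // TY t} ≤ 10296) {t : Spor.J4} (ht : TY t) (hv : t * v5 = v5 * t)
    (h3 : t * a5 = a5 * t) : t ∈ ([65, 64] : List ℕ).map (getG LE) :=
  soundT hcard (d := (ps5, 221, [65, 64])) (by simp [dT]) ht (comm5 hcard ht hv) h3

theorem T_a6 (hcard : Nat.card {t // TY t} ≤ 10296) {t : Spor.J4} (ht : TY t) (hv : t * v6 = v6 * t)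
    (h3 : t * a6 = a6 * t) : t ∈ ([45, 36] : List ℕ).map (getG LE) :=
  soundT hcard (d := (ps6, 209, [45, 36])) (by simp [dT]) ht (comm6 hcard ht hv) h3

theorem T_a7a (hcard : Nat.card {t // TY t} ≤ 10296) {t : Spor.J4} (ht : TY t) (hv : t * v7 = v7 * t)
    (h3 : t * a7a = a7a * t) : t ∈ ([17] : List ℕ).map (getG LE) :=
  soundT hcard (d := (ps7, 206, [17])) (by simp [dT]) ht (comm7 hcard ht hv) h3

theorem T_a9a (hcard : Nat.card {t // TY t} ≤ 10296) {t : Spor.J4} (ht : TY t) (hv : t * v9 = v9 * t)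
    (h3 : t * a9a = a9a * t) : t ∈ ([4] : List ℕ).map (getG LE) :=
  soundT hcard (d := (ps9, 184, [4])) (by simp [dT]) ht (comm9 hcard ht hv) h3

theorem T_a9b (hcard : Nat.card {t // TY t} ≤ 10296) {t : Spor.J4} (ht : TY t) (hv : t * v9 = v9 * t)
    (h3 : t * a9b = a9b * t) : t ∈ ([] : List ℕ).map (getG LE) :=
  soundT hcard (d := (ps9, 179, [])) (by simp [dT]) ht (comm9 hcard ht hv) h3

theorem T_a9c (hcard : Nat.card {t // TY t} ≤ 10296) {t : Spor.J4} (ht : TY t) (hv : t * v9 = v9 * t)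
    (h3 : t * a9c = a9c * t) : t ∈ ([] : List ℕ).map (getG LE) :=
  soundT hcard (d := (ps9, 193, [])) (by simp [dT]) ht (comm9 hcard ht hv) h3

end Cfsg.Agent.H856.JM.Small
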